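import Cfsg.Agent.Fi24Four.Defs

/-! Checks of the action on the blocks. -/

set_option autoImplicit false
set_option maxRecDepth 100000
set_option maxHeartbeats 0
set_option Elab.async false

namespace Cfsg.Agent.Fi24Four

open Cfsg.Agent.Compute

theorem blk_inj : allBelow 112 (fun q => allBelow q fun r =>
    !(allBelow 504 fun p => Nat.beq (bit q p) (bit r p))) = true := by decide +kernel

theorem blkA : allBelow 4 blkB = true := by decide +kernel
theorem blkC : allBelow 4 (fun i => blkB (4 + i)) = true := by decide +kernel
theorem blkD : allBelow 4 (fun i => blkB (8 + i)) = true := by decide +kernel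
theorem blkE : allBelow 4 (fun i => blkB (12 + i)) = true := by decide +kernel
theorem blkF : allBelow 4 (fun i => blkB (16 + i)) = true := by decide +kernel

end Cfsg.Agent.Fi24Four
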