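import Cfsg.Agent.Fi24Four.Defs

/-! Checks on the permutations. -/

set_option autoImplicit false
set_option maxRecDepth 100000
set_option maxHeartbeats 0
set_option Elab.async false

namespace Cfsg.Agent.Fi24Four

open Cfsg.Agent.Compute Cfsg.Agent.UnitMult

theorem recA : allBelow 55 recB = true := by decide +kernel
theorem recC : allBelow 55 (fun k => recB (55 + k)) = true := by decide +kernel
theorem recD : allBelow 55 (fun k => recB (110 + k)) = true := by decide +kernel

theorem z_id : allBelow 504 (fun p => Nat.beq (pm 0 p) p) = true := by decide +kernel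

theorem x_ok : allBelow 12 (fun a =>
    (allBelow 112 fun q => Nat.beq (tv (7 + a) q) q) &&
    allBelow 504 fun p => Nat.beq (pm (7 + a) (pm (7 + a) p)) p &&
      allBelow a fun b => Nat.beq (pm (7 + a) (pm (7 + b) p)) (pm (7 + b) (pm (7 + a) p))) = true := by
  decide +kernel

theorem qMasks_ok : ((topGens lvPts).all (fun g => qMasks.any fun e => Nat.beq e.1 g) &&
    qMasks.all fun e => allBelow 504 fun p => Nat.beq (pm e.1 p) (maskApp e.2 p)) = true := by
  decide +kernel

theorem norm_ok : allBelow 20 (fun i => allBelow 12 fun k => allBelow 504 fun p =>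
    Nat.beq (pm i (pm (7 + k) p)) (maskApp ((normMasks.getD i []).getD k 0) (pm i p))) = true := by
  decide +kernel

theorem dual_ok : allBelow 12 (fun k => allBelow 12 fun j =>
    Nat.beq (pairSum (dual.getD k 0) j % 2) (cond (Nat.beq k j) 1 0)) = true := by decide +kernel

theorem t_ok : ((allBelow 112 fun q => Nat.beq (tv 131 q) q) && Nat.beq (pm 131 9) 9 == false &&
    (allBelow 504 fun p => Nat.beq (pm 131 (pm 131 (pm 131 p))) p) &&
    (allBelow 504 fun p => Nat.beq (pm 132 p) (pm 131 (pm 131 p)))) = true := by decide +kernel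

theorem t_moves : pm 131 (pm 7 9) ≠ pm 7 (pm 131 9) ∧ pm 132 (pm 7 9) ≠ pm 7 (pm 132 9) := by
  decide +kernel

theorem g_moves : pm (pNodes.getD 0 0) (pm 7 3) ≠ pm 7 (pm (pNodes.getD 0 0) 3) ∧
    pm (pNodes.getD 0 0) (pm 7 3) ≠ pm 131 (pm 7 (pm 132 (pm (pNodes.getD 0 0) 3))) ∧
    pm (pNodes.getD 0 0) (pm 7 3) ≠ pm 132 (pm 7 (pm 131 (pm (pNodes.getD 0 0) 3))) := by
  decide +kernel

theorem lvBlk_ok : (chainB tv 112 185 lvBlk && Nat.beq (chainSz lvBlk) 6531840) = true := by
  decide +kernel

theorem lvPts_ok : (chainB pm 504 185 lvPts && Nat.beq (chainSz lvPts) 4096) = true := by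
  decide +kernel

theorem stab_ok : ((topGens lvBlk.tail).all (fun g => Nat.blt g 185 &&
      Nat.beq (tv g (lvBlk.headD (0, [], [])).1) (lvBlk.headD (0, [], [])).1) &&
    allBelow 112 fun q => Nat.beq q (lvBlk.headD (0, [], [])).1 ||
      (topGens lvBlk.tail).any fun g => !(Nat.beq (tv g q) q)) = true := by decide +kernel

theorem p_ok : allBelow 5 (fun s => Nat.blt (pNodes.getD s 0) 185 && allBelow 112 fun q =>
    Nat.beq (tv (pNodes.getD s 0) q)
      (rel.getD (getField 7 (FourThree.codes.getD s 0) (rinv.getD q 0)) 0)) = true := by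
  decide +kernel

theorem rel_ok : allBelow 112 (fun q => Nat.blt (rel.getD q 0) 112 && Nat.blt (rinv.getD q 0) 112 &&
    Nat.beq (rel.getD (rinv.getD q 0) 0) q && Nat.beq (rinv.getD (rel.getD q 0) 0) q) = true := by
  decide +kernel

end Cfsg.Agent.Fi24Four
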