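import Cfsg.Agent.Fi24Four.Defs

/-! Checks on the points of Fi24. -/

set_option autoImplicit false
set_option maxRecDepth 100000
set_option maxHeartbeats 0
set_option Elab.async false

namespace Cfsg.Agent.Fi24Four

open Cfsg.Agent.CosetCert Cfsg.Agent.Compute

theorem leaves_ok : allBelow 20 (fun i => (leafF.getD i []).all facB &&
    (word i).all (fun y => Nat.blt y 12) && Nat.beq ((word i).length % 2) 0) = true := by
  decide +kernel

theorem word_zero : word 0 = zW := by decide +kernel

theorem pts_inc : (Nat.blt (pt 503) 306936 &&
    allBelow 503 fun p => Nat.blt (pt p) (pt (p + 1))) = true := by decide +kernel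

theorem ptsA : allBelow 5 (fun i => ptsB (word i).reverse i) = true := by decide +kernel
theorem ptsC' : allBelow 5 (fun i => ptsB (word (5 + i)).reverse (5 + i)) = true := by decide +kernel
theorem ptsD : allBelow 5 (fun i => ptsB (word (10 + i)).reverse (10 + i)) = true := by decide +kernel
theorem ptsE : allBelow 5 (fun i => ptsB (word (15 + i)).reverse (15 + i)) = true := by decide +kernel

theorem z_moves : Fi24Index.data.fwd zW.reverse 1 ≠ 1 ∧ Fi24Index.data.fwd zW.reverse 1 < 306936 := by
  decide +kernel

theorem comm_ok : allBelow 12 (fun a => allBelow 12 fun b =>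
    Nat.beq (Fi24Index.data.fwd (word (7 + a) ++ word (7 + b) ++ (word (7 + a)).reverse ++
        (word (7 + b)).reverse).reverse 1)
      (cond (Nat.testBit (pairing.getD a 0) b) (Fi24Index.data.fwd zW.reverse 1) 1)) = true := by
  decide +kernel

end Cfsg.Agent.Fi24Four
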