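import Cfsg.Agent.Fi24Four.Group

/-!
The orders of the actions of the centraliser of `z`, given an upper bound for the centraliser in
Fi24; the extraspecial normal subgroup of order 2^13.
-/

set_option autoImplicit false
set_option maxRecDepth 100000

namespace Cfsg.Agent.Fi24Four

open Cfsg.Agent.Compute Cfsg.Agent.Fi24

attribute [local irreducible] pm tv bit pt

/-- One of the twelve. -/
noncomputable def X (j : Nat) : C1 := lf (7 + j)

/-- The group of their permutations. -/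
noncomputable def QP : Subgroup (Equiv.Perm (Fin 504)) :=
  Subgroup.closure (Set.range fun j : Fin 12 => ψ (X j))

theorem X_mem {j : Nat} (hj : j < 12) : ψ (X j) ∈ QP := Subgroup.subset_closure ⟨⟨j, hj⟩, rfl⟩

theorem ψX_comm : ∀ i j : Fin 12, Commute (ψ (X i)) (ψ (X j)) := by
  have key : ∀ i j : Fin 12, (j : Nat) < i → Commute (ψ (X i)) (ψ (X j)) := by
    intro i j h
    refine Equiv.ext fun p => Fin.ext ?_
    have h' := allBelow_eq_true.1 x_ok i i.2
    simp only [Bool.and_eq_true, allBelow_eq_true, Nat.beq_eq] at h'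
    simp only [Equiv.Perm.mul_apply, X, ψ_lf (show 7 + (i : Nat) < 20 by omega),
      ψ_lf (show 7 + (j : Nat) < 20 by omega)]
    exact (h'.2 p p.2).2 j h
  intro i j
  rcases lt_trichotomy (j : Nat) i with h | h | h
  exacts [key i j h, by rw [Fin.ext h], (key j i h).symm]

theorem ψX_sq (i : Fin 12) : ψ (X i) * ψ (X i) = 1 := by
  refine Equiv.ext fun p => Fin.ext ?_
  have h' := allBelow_eq_true.1 x_ok i i.2
  simp only [Bool.and_eq_true, allBelow_eq_true, Nat.beq_eq] at h'
  simp only [Equiv.Perm.mul_apply, X, ψ_lf (show 7 + (i : Nat) < 20 by omega),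
    Equiv.Perm.one_apply]
  exact (h'.2 p p.2).1

theorem mask_mem (m : Nat) : ∃ σ ∈ QP, ∀ p : Fin 504, (σ p : Nat) = maskApp m p := by
  have key : ∀ r ≤ 12, ∃ σ ∈ QP, ∀ p : Fin 504, (σ p : Nat) =
      Nat.rec (motive := fun _ => Nat) (p : Nat)
        (fun k v => cond (Nat.testBit m k) (pm (7 + k) v) v) r := by
    intro r
    induction r with
    | zero => exact fun _ => ⟨1, one_mem _, fun p => rfl⟩
    | succ r ih =>
      intro hr
      obtain ⟨σ, hσ, e⟩ := ih (by omega)
      rcases hb : Nat.testBit m r with _ | _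
      · refine ⟨σ, hσ, fun p => ?_⟩
        show _ = cond (Nat.testBit m r) _ _
        rw [hb, cond_false, e p]
      · refine ⟨ψ (X r) * σ, mul_mem (X_mem (by omega)) hσ, fun p => ?_⟩
        show _ = cond (Nat.testBit m r) _ _
        rw [hb, cond_true, Equiv.Perm.mul_apply, X, ψ_lf (by omega), e p]
  exact key 12 le_rfl

theorem QP_comm {a b : Equiv.Perm (Fin 504)} (ha : a ∈ QP) (hb : b ∈ QP) : Commute a b := by
  induction ha, hb using Subgroup.closure_induction₂ with
  | mem x y hx hy =>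
    obtain ⟨i, rfl⟩ := hx
    obtain ⟨j, rfl⟩ := hy
    exact ψX_comm i j
  | one_left => exact Commute.one_left _
  | one_right => exact Commute.one_right _
  | mul_left _ _ _ _ _ _ h₁ h₂ => exact h₁.mul_left h₂
  | mul_right _ _ _ _ _ _ h₁ h₂ => exact h₁.mul_right h₂
  | inv_left _ _ _ _ h => exact h.inv_left
  | inv_right _ _ _ _ h => exact h.inv_right

theorem QP_sq {a : Equiv.Perm (Fin 504)} (ha : a ∈ QP) : a * a = 1 := by
  induction ha using Subgroup.closure_induction with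
  | mem x hx =>
    obtain ⟨i, rfl⟩ := hx
    exact ψX_sq i
  | one => exact one_mul 1
  | mul x y hx hy h₁ h₂ => rw [← sq, (QP_comm hx hy).mul_pow, sq, sq, h₁, h₂, one_mul]
  | inv x _ h => rw [← mul_inv_rev, h, inv_one]

theorem card_QP : Nat.card QP = 4096 := by
  refine le_antisymm ?_ ?_
  · exact (card_closure_invol (fun j : Fin 12 => ψ (X j)) ψX_sq ψX_comm).trans_eq (by norm_num)
  · have h := lvPts_ok
    simp only [Bool.and_eq_true, Nat.beq_eq] at h
    rw [← h.2]
    refine (chain_lower pm (fun k => ψ (nd k)) (fun g hg p => (nd_spec hg).1 p) _ h.1).trans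
      (Subgroup.card_le_of_le ((Subgroup.closure_le _).2 ?_))
    rintro _ ⟨g, hg, rfl⟩
    have hg' : g < 185 := by
      have h1 := h.1
      revert h1 hg
      cases lvPts with
      | nil => intro hg; cases hg
      | cons l r =>
        intro hg h1
        simp only [chainB, orbB, Bool.and_eq_true, List.all_eq_true, Nat.blt_eq] at h1
        exact h1.1.1.1.2 g hg
    have hq := qMasks_ok
    simp only [Bool.and_eq_true, List.all_eq_true, List.any_eq_true, allBelow_eq_true,
      Nat.beq_eq] at hq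
    obtain ⟨e, he, rfl⟩ := hq.1 g hg
    obtain ⟨σ, hσ, hσp⟩ := mask_mem e.2
    have : ψ (nd e.1) = σ := Equiv.ext fun p => Fin.ext (by
      rw [(nd_spec hg').1, hσp, hq.2 e he p p.2])
    show ψ (nd e.1) ∈ QP
    rw [this]
    exact hσ

theorem QP_normal (g : C1) {a : Equiv.Perm (Fin 504)} (ha : a ∈ QP) : ψ g * a * (ψ g)⁻¹ ∈ QP := by
  have hgen : ∀ i, i < 20 → ∀ a ∈ QP, ψ (lf i) * a * (ψ (lf i))⁻¹ ∈ QP := by
    intro i hi a ha
    induction ha using Subgroup.closure_induction with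
    | mem x hx =>
      obtain ⟨j, rfl⟩ := hx
      obtain ⟨σ, hσ, hσp⟩ := mask_mem ((normMasks.getD i []).getD j 0)
      have e : ψ (lf i) * ψ (X j) = σ * ψ (lf i) := by
        refine Equiv.ext fun p => Fin.ext ?_
        have h := allBelow_eq_true.1 (allBelow_eq_true.1 (allBelow_eq_true.1 norm_ok i hi) j j.2) p p.2
        simp only [Equiv.Perm.mul_apply, X, ψ_lf hi, ψ_lf (show 7 + (j : Nat) < 20 by omega), hσp]
        exact Nat.eq_of_beq_eq_true h
      rw [e, mul_inv_cancel_right]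
      exact hσ
    | one => rw [mul_one, mul_inv_cancel]; exact one_mem _
    | mul x y _ _ h₁ h₂ =>
      rw [show ψ (lf i) * (x * y) * (ψ (lf i))⁻¹ =
        ψ (lf i) * x * (ψ (lf i))⁻¹ * (ψ (lf i) * y * (ψ (lf i))⁻¹) from by group]
      exact mul_mem h₁ h₂
    | inv x _ h =>
      rw [show ψ (lf i) * x⁻¹ * (ψ (lf i))⁻¹ = (ψ (lf i) * x * (ψ (lf i))⁻¹)⁻¹ from by group]
      exact inv_mem h
  have hg := lf_generates g
  rw [← Subgroup.mem_toSubmonoid, Subgroup.closure_toSubmonoid_of_finite] at hg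
  induction hg using Submonoid.closure_induction generalizing a with
  | mem s hs =>
    obtain ⟨i, hi, rfl⟩ := hs
    exact hgen i hi a ha
  | one => rw [map_one, one_mul, inv_one, mul_one]; exact ha
  | mul u v _ _ hu hv =>
    rw [map_mul, show ψ u * ψ v * a * (ψ u * ψ v)⁻¹ = ψ u * (ψ v * a * (ψ v)⁻¹) * (ψ u)⁻¹ from by
      group]
    exact hu (hv ha)

/-- The kernel of the action on blocks. -/
noncomputable abbrev N : Subgroup C1 := θ.ker

theorem θ_X {j : Nat} (hj : j < 12) : θ (X j) = 1 := by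
  refine Equiv.ext fun q => Fin.ext ?_
  have h := allBelow_eq_true.1 x_ok j hj
  simp only [Bool.and_eq_true, allBelow_eq_true, Nat.beq_eq] at h
  rw [X, θ_lf (by omega), Equiv.Perm.one_apply]
  exact h.1 q q.2

theorem QP_le : QP ≤ N.map ψ :=
  (Subgroup.closure_le _).2 fun _ ⟨j, e⟩ => ⟨X j, θ_X j.2, e⟩

/-- The element of order three. -/
noncomputable def t : C1 := nd 131

theorem t_mem : t ∈ N := by
  have h := t_ok
  simp only [Bool.and_eq_true, allBelow_eq_true, Nat.beq_eq] at h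
  refine Equiv.ext fun q => Fin.ext ?_
  rw [t, (nd_spec (by norm_num)).2, Equiv.Perm.one_apply]
  exact h.1.1.1 q q.2

theorem ψ_t : ψ t ^ 3 = 1 ∧ ψ t ≠ 1 ∧ ψ (nd 132) = ψ t ^ 2 := by
  have h := t_ok
  simp only [Bool.and_eq_true, allBelow_eq_true, Nat.beq_eq, beq_iff_eq,
    ← Bool.not_eq_true] at h
  refine ⟨?_, fun e => ?_, ?_⟩
  · refine Equiv.ext fun p => Fin.ext ?_
    simp only [pow_succ, pow_zero, one_mul, Equiv.Perm.mul_apply, Equiv.Perm.one_apply, t,
      (nd_spec (show 131 < 185 by norm_num)).1]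
    exact h.1.2 p p.2
  · refine h.1.1.2 ?_
    have e' := congrArg (fun σ : Equiv.Perm (Fin 504) => (σ ⟨9, by norm_num⟩ : Nat)) e
    simp only [t, (nd_spec (show 131 < 185 by norm_num)).1, Equiv.Perm.one_apply] at e'
    exact e'
  · refine Equiv.ext fun p => Fin.ext ?_
    rw [(nd_spec (by norm_num)).1, sq, Equiv.Perm.mul_apply, t, (nd_spec (by norm_num)).1,
      (nd_spec (by norm_num)).1]
    exact h.2 p p.2

section Bound

variable (hb : Nat.card ↥(Subgroup.centralizer ({z} : Set G)) ≤ 321052999680)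
include hb

theorem counts : C1 = C ∧ Nat.card ↥N = 24576 ∧ Nat.card ↥θ.range = 6531840 ∧
    Nat.card ↥(N.map ψ) = 12288 ∧ ∀ g : C1, ψ g = 1 → g = 1 ∨ g = z1 := by
  classical
  have ht : orderOf (ψ t) = 3 :=
    haveI : Fact (Nat.Prime 3) := ⟨Nat.prime_three⟩
    orderOf_eq_prime ψ_t.1 ψ_t.2.1
  have hdvd : 12288 ∣ Nat.card ↥(N.map ψ) := by
    have h3 : 3 ∣ Nat.card ↥(N.map ψ) :=
      ht ▸ Subgroup.orderOf_dvd_natCard (N.map ψ) (Subgroup.mem_map_of_mem ψ t_mem)
    exact (show Nat.Coprime 4096 3 by norm_num).mul_dvd_of_dvd_of_dvd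
      (card_QP ▸ Subgroup.card_dvd_of_le QP_le) h3
  have hψN : 12288 ≤ Nat.card ↥(N.map ψ) := Nat.le_of_dvd Nat.card_pos hdvd
  have hθ : 6531840 ≤ Nat.card ↥θ.range := by
    have h := lvBlk_ok
    simp only [Bool.and_eq_true, Nat.beq_eq] at h
    rw [← h.2]
    refine (chain_lower tv (fun k => θ (nd k)) (fun g hg p => (nd_spec hg).2 p) _ h.1).trans
      (Subgroup.card_le_of_le ((Subgroup.closure_le _).2 ?_))
    rintro _ ⟨g, -, rfl⟩
    exact ⟨nd g, rfl⟩
  have hN : Nat.card ↥(ψ.comp N.subtype).ker * Nat.card ↥(N.map ψ) = Nat.card ↥N := by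
    have h := (ψ.comp N.subtype).ker.card_mul_index
    rwa [Subgroup.index_ker, MonoidHom.range_comp, Subgroup.range_subtype] at h
  have hz : z1 ∈ N := θ_eq_one ψ_z1
  have hk : 2 ≤ Nat.card ↥(ψ.comp N.subtype).ker := by
    refine Finite.one_lt_card_iff_nontrivial.2 ⟨⟨⟨⟨z1, hz⟩, ψ_z1⟩, 1, fun h => z1_ne_one ?_⟩⟩
    exact congrArg (fun x : ↥(ψ.comp N.subtype).ker => ((x : N) : C1)) h
  have hC1 : Nat.card ↥N * Nat.card ↥θ.range = Nat.card C1 := by
    have h := θ.ker.card_mul_index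
    rwa [Subgroup.index_ker] at h
  have hle : C ≤ Subgroup.centralizer ({z} : Set G) := inf_le_right
  have h2C : Nat.card ↥C * 2 ≤ 321052999680 := by
    obtain ⟨k, hk'⟩ := Subgroup.card_dvd_of_le hle
    have hk1 : k ≠ 1 := by
      rintro rfl
      rw [mul_one] at hk'
      have e := Subgroup.eq_of_le_of_card_ge hle hk'.le
      have hL : el [11] ∈ C := by
        rw [e]
        exact Subgroup.mem_centralizer_singleton_iff.2 (commute_single (by decide)).eq
      have h1 : el [11] ∈ commutator G := hL.1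
      rw [commutator_eq, MonoidHom.mem_ker, sign_el (by decide)] at h1
      revert h1
      decide
    have hk0 : k ≠ 0 := by
      rintro rfl
      rw [mul_zero] at hk'
      exact Nat.card_pos.ne' hk'
    calc Nat.card ↥C * 2 ≤ Nat.card ↥C * k := Nat.mul_le_mul_left _ (by omega)
      _ = _ := hk'.symm
      _ ≤ _ := hb
  have h1 : 24576 ≤ Nat.card ↥N := hN ▸ Nat.mul_le_mul hk hψN
  have h2 : Nat.card ↥N * Nat.card ↥θ.range ≤ 160526499840 := by
    rw [hC1]
    have := Subgroup.card_le_of_le C1_le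
    omega
  have h3 := Nat.mul_le_mul h1 hθ
  have hNc : Nat.card ↥N = 24576 := by
    refine le_antisymm ?_ h1
    by_contra hcon
    have : 24577 * 6531840 ≤ Nat.card ↥N * Nat.card ↥θ.range := Nat.mul_le_mul (by omega) hθ
    omega
  have hθc : Nat.card ↥θ.range = 6531840 := by
    rw [hNc] at h2
    omega
  have hψc : Nat.card ↥(N.map ψ) = 12288 := by
    refine le_antisymm ?_ hψN
    have := Nat.mul_le_mul_right (Nat.card ↥(N.map ψ)) hk
    omega
  refine ⟨Subgroup.eq_of_le_of_card_ge C1_le (by rw [← hC1, hNc, hθc]; omega), hNc, hθc, hψc, ?_⟩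
  intro g hg
  have hgN : g ∈ N := θ_eq_one hg
  have hk2 : Nat.card ↥(ψ.comp N.subtype).ker = 2 := by
    rw [hψc, hNc] at hN
    omega
  have hne : (⟨⟨z1, hz⟩, ψ_z1⟩ : ↥(ψ.comp N.subtype).ker) ≠ 1 := fun h =>
    z1_ne_one (congrArg (fun x : ↥(ψ.comp N.subtype).ker => ((x : N) : C1)) h)
  obtain ⟨a, b, hab, huniv⟩ := Nat.card_eq_two_iff.1 hk2
  have hmem : ∀ x : ↥(ψ.comp N.subtype).ker, x = a ∨ x = b := fun x => by
    have : x ∈ ({a, b} : Set _) := huniv ▸ Set.mem_univ x
    simpa using this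
  have : (⟨⟨g, hgN⟩, hg⟩ : ↥(ψ.comp N.subtype).ker) = 1 ∨
      (⟨⟨g, hgN⟩, hg⟩ : ↥(ψ.comp N.subtype).ker) = ⟨⟨z1, hz⟩, ψ_z1⟩ := by
    rcases hmem ⟨⟨g, hgN⟩, hg⟩ with e | e <;> rcases hmem 1 with e1 | e1 <;>
      rcases hmem ⟨⟨z1, hz⟩, ψ_z1⟩ with e2 | e2 <;>
      first
        | exact Or.inl (e.trans e1.symm)
        | exact Or.inr (e.trans e2.symm)
        | exact absurd (e2.trans e1.symm) hne
  rcases this with e | e
  exacts [Or.inl (congrArg (fun x : ↥(ψ.comp N.subtype).ker => ((x : N) : C1)) e),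
    Or.inr (congrArg (fun x : ↥(ψ.comp N.subtype).ker => ((x : N) : C1)) e)]

end Bound

/-- The normal subgroup of order 2^13. -/
noncomputable def Q : Subgroup C1 := QP.comap ψ

theorem mem_Q {g : C1} : g ∈ Q ↔ ψ g ∈ QP := Iff.rfl

instance : Q.Normal := ⟨fun q hq g => by
  rw [mem_Q, map_mul, map_mul, map_inv]
  exact QP_normal g hq⟩

end Cfsg.Agent.Fi24Four
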