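import Cfsg.Agent.Fi24Four.Data
import Cfsg.Agent.UnitMult.FourThreeData
import Cfsg.Agent.CosetCert.Fi24Index.Defs
import Cfsg.Agent.Compute.Perm

/-!
Checks for the centraliser of a product of four commuting transpositions in Fi24, on its 504
fixed points and on 112 blocks of them.
-/

set_option autoImplicit false

namespace Cfsg.Agent.Fi24Four

open Cfsg.Agent.CosetCert Cfsg.Agent.Compute

/-- The word of the element: the commuting transpositions `l, a, c, e`. -/
def zW : List Nat := [11, 1, 3, 7]

/-- A fixed point. -/
noncomputable def pt (i : Nat) : Nat := getField 19 ptsC i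

/-- A permutation of the fixed points. -/
noncomputable def pm (k p : Nat) : Nat := getField 9 (perms.getD k 0) p

/-- Its action on the blocks. -/
noncomputable def tv (k q : Nat) : Nat := getField 7 (thC.getD k 0) q

/-- Membership of a point in a block. -/
noncomputable def bit (q p : Nat) : Nat := getField 1 (blocks.getD q 0) p

/-- The word of a product of factors. -/
def wordOf (f : List (Bool × List Nat)) : List Nat :=
  (f.map fun x => cond x.1 (x.2 ++ [11] ++ x.2.reverse) x.2).flatten

/-- A generator. -/
noncomputable def word (i : Nat) : List Nat := wordOf (leafF.getD i [])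

/-- Words commuting with `l a c e` for elementary reasons. -/
def plain : List (List Nat) := [[1], [3], [6], [7], [10], [11], [2, 3, 1, 2], [2, 1, 3, 2]]

/-- A factor commutes with `l a c e`: it is plain, or a transposition whose point is fixed. -/
noncomputable def facB (x : Bool × List Nat) : Bool :=
  cond x.1
    (x.2.all (fun y => Nat.blt y 12) &&
      Nat.beq (Fi24Index.data.fwd zW.reverse (Fi24Index.data.fwd x.2.reverse 0))
        (Fi24Index.data.fwd x.2.reverse 0))
    (plain.contains x.2)

/-- A word permutes the fixed points as given. -/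
noncomputable def ptsB (w : List Nat) (k : Nat) : Bool :=
  allBelow 504 fun p => Nat.blt (pm k p) 504 &&
    Nat.beq (Fi24Index.data.fwd w (pt p)) (pt (pm k p))

/-- A permutation of the points carries blocks to blocks as given. -/
noncomputable def blkB (k : Nat) : Bool :=
  allBelow 112 fun q => Nat.blt (tv k q) 112 &&
    allBelow 504 fun p => Nat.beq (bit q p) (bit (tv k q) (pm k p))

/-- A later permutation is the product of two earlier ones. -/
noncomputable def recB (k : Nat) : Bool :=
  Nat.blt (recs.getD k (0, 0)).1 (20 + k) && Nat.blt (recs.getD k (0, 0)).2 (20 + k) &&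
    (allBelow 504 fun p =>
      Nat.beq (pm (20 + k) p) (pm (recs.getD k (0, 0)).1 (pm (recs.getD k (0, 0)).2 p))) &&
    allBelow 112 fun q =>
      Nat.beq (tv (20 + k) q) (tv (recs.getD k (0, 0)).1 (tv (recs.getD k (0, 0)).2 q))

/-- A product of some of the twelve. -/
noncomputable def maskApp (m p : Nat) : Nat :=
  Nat.rec (motive := fun _ => Nat) p (fun k r => cond (Nat.testBit m k) (pm (7 + k) r) r) 12

/-- A count of pairings. -/
noncomputable def pairSum (m j : Nat) : Nat :=
  Nat.rec (motive := fun _ => Nat) 0
    (fun i r => cond (Nat.testBit m i && Nat.testBit (pairing.getD i 0) j) (r + 1) r) 12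

/-- An orbit level: a base point, generators, and the orbit with parents. -/
abbrev Lvl := Nat × List Nat × List (Nat × Nat × Nat)

/-- The orbit of a level is right. -/
noncomputable def orbB (ap : Nat → Nat → Nat) (n m : Nat) (l : Lvl) : Bool :=
  Nat.blt 0 l.2.2.length && Nat.beq (l.2.2.getD 0 (0, 0, 0)).1 l.1 &&
  l.2.1.all (fun g => Nat.blt g m) &&
  allBelow l.2.2.length fun j =>
    Nat.blt (l.2.2.getD j (0, 0, 0)).1 n &&
    (allBelow j fun i => !(Nat.beq (l.2.2.getD i (0, 0, 0)).1 (l.2.2.getD j (0, 0, 0)).1)) &&
    (Nat.beq j 0 || (Nat.blt (l.2.2.getD j (0, 0, 0)).2.1 j &&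
      l.2.1.contains (l.2.2.getD j (0, 0, 0)).2.2 &&
      Nat.beq (ap (l.2.2.getD j (0, 0, 0)).2.2
          (l.2.2.getD (l.2.2.getD j (0, 0, 0)).2.1 (0, 0, 0)).1)
        (l.2.2.getD j (0, 0, 0)).1))

/-- The generators of the first level. -/
def topGens : List Lvl → List Nat
  | [] => []
  | l :: _ => l.2.1

/-- A chain of orbits of pointwise stabilisers. -/
noncomputable def chainB (ap : Nat → Nat → Nat) (n m : Nat) : List Lvl → Bool
  | [] => true
  | l :: r => orbB ap n m l &&
      (topGens r).all (fun g => l.2.1.contains g && Nat.beq (ap g l.1) l.1) && chainB ap n m r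

/-- The product of the orbit lengths. -/
def chainSz : List Lvl → Nat
  | [] => 1
  | l :: r => l.2.2.length * chainSz r

end Cfsg.Agent.Fi24Four
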