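import Cfsg.Agent.Fi24Four.Count
import Cfsg.Agent.LargeExtra.Quotient

/-!
The subgroup `Q` is extraspecial of order 2^13.
-/

set_option autoImplicit false
set_option maxRecDepth 100000

namespace Cfsg.Agent.Fi24Four

open Cfsg.Agent.Compute Cfsg.Agent.Fi24
open scoped commutatorElement

attribute [local irreducible] pm tv bit pt

/-- A product of some of the twelve. -/
noncomputable def yk (m : Nat) : C1 :=
  Nat.rec (motive := fun _ => C1) 1 (fun i r => cond (Nat.testBit m i) (X i * r) r) 12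

theorem yk_mem (m : Nat) : yk m ∈ Q := by
  have key : ∀ r ≤ 12, (Nat.rec (motive := fun _ => C1) 1
      (fun i v => cond (Nat.testBit m i) (X i * v) v) r : C1) ∈ Q := by
    intro r
    induction r with
    | zero => exact fun _ => one_mem Q
    | succ r ih =>
      intro hr
      show cond (Nat.testBit m r) _ _ ∈ Q
      rcases Nat.testBit m r with _ | _
      · exact ih (by omega)
      · exact mul_mem (mem_Q.2 (X_mem (by omega))) (ih (by omega))
  exact key 12 le_rfl

theorem z1_pow (n : Nat) : z1 ^ n = z1 ^ (n % 2) := by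
  conv_lhs => rw [← Nat.div_add_mod n 2, pow_add, pow_mul, sq, z1_sq, one_pow, one_mul]

theorem z1_mem : z1 ∈ Q := by
  rw [mem_Q, ψ_z1]
  exact one_mem _

theorem X_memQ {j : Nat} (hj : j < 12) : X j ∈ Q := mem_Q.2 (X_mem hj)

section Bound

variable (hb : Nat.card ↥(Subgroup.centralizer ({z} : Set G)) ≤ 321052999680)
include hb

theorem comm_cases {a b : C1} (ha : a ∈ Q) (hb' : b ∈ Q) : ⁅a, b⁆ = 1 ∨ ⁅a, b⁆ = z1 :=
  (counts hb).2.2.2.2 _ (by
    rw [map_commutatorElement, commutatorElement_eq_one_iff_commute]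
    exact QP_comm ha hb')

theorem sq_cases {a : C1} (ha : a ∈ Q) : a * a = 1 ∨ a * a = z1 :=
  (counts hb).2.2.2.2 _ (by rw [map_mul]; exact QP_sq ha)

theorem comm_central {a b : C1} (ha : a ∈ Q) (hb' : b ∈ Q) : ⁅a, b⁆ ∈ Subgroup.center C1 := by
  rcases comm_cases hb ha hb' with e | e <;> rw [e]
  exacts [one_mem _, z1_central]

theorem comm_X {i j : Nat} (hi : i < 12) (hj : j < 12) :
    ⁅X i, X j⁆ = z1 ^ (if Nat.testBit (pairing.getD i 0) j then 1 else 0) := by
  have h := allBelow_eq_true.1 (allBelow_eq_true.1 comm_ok i hi) j hj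
  rw [Nat.beq_eq] at h
  have hw : ∀ k, k < 12 → ∀ x ∈ word (7 + k), x < 12 := fun k hk => (leaf_spec (by omega)).1
  have hall : ∀ x ∈ word (7 + i) ++ word (7 + j) ++ (word (7 + i)).reverse ++ (word (7 + j)).reverse,
      x < 12 := by
    intro x hx
    simp only [List.mem_append, List.mem_reverse] at hx
    rcases hx with ((hx | hx) | hx) | hx
    exacts [hw i hi x hx, hw j hj x hx, hw i hi x hx, hw j hj x hx]
  have hv : ((⁅X i, X j⁆ : C1) : G) =
      el (word (7 + i) ++ word (7 + j) ++ (word (7 + i)).reverse ++ (word (7 + j)).reverse) := by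
    rw [el_append, el_append, el_append, el_reverse (hw i hi), el_reverse (hw j hj),
      ← lf_val (show 7 + i < 20 by omega), ← lf_val (show 7 + j < 20 by omega)]
    simp only [X, commutatorElement_def, Subgroup.coe_mul, Subgroup.coe_inv]
  have hval : (φ ((⁅X i, X j⁆ : C1) : G) ⟨1, by norm_num⟩ : Nat) =
      cond (Nat.testBit (pairing.getD i 0) j)
        (Cfsg.Agent.CosetCert.Fi24Index.data.fwd zW.reverse 1) 1 := by
    rw [hv, φ_apply _ hall]
    exact h
  rcases comm_cases hb (X_memQ hi) (X_memQ hj) with e | e <;> rw [e] at hval ⊢ <;>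
    generalize Nat.testBit (pairing.getD i 0) j = bb at hval ⊢ <;> cases bb
  · rw [if_neg (by decide), pow_zero]
  · rw [OneMemClass.coe_one, map_one, Equiv.Perm.one_apply, cond_true] at hval
    exact absurd hval.symm z_moves.1
  · rw [z1_val, φ_apply _ (by decide), cond_false] at hval
    exact absurd hval z_moves.1
  · rw [if_pos rfl, pow_one]

/-- Commutators with the twelve. -/
noncomputable def pairHom : ↥Q →* (Fin 12 → ↥(Subgroup.center C1)) :=
  MonoidHom.mk' (fun q j => ⟨⁅(q : C1), X j⁆, comm_central hb q.2 (X_memQ j.2)⟩) fun a b => by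
    funext j
    refine Subtype.ext ?_
    have hc := Subgroup.mem_center_iff.1 (comm_central hb b.2 (X_memQ j.2)) (a : C1)
    show ⁅(a : C1) * b, X j⁆ = ⁅(a : C1), X j⁆ * ⁅(b : C1), X j⁆
    rw [show ⁅(a : C1) * b, X j⁆ = (a : C1) * ⁅(b : C1), X j⁆ * (a : C1)⁻¹ * ⁅(a : C1), X j⁆ from by
      simp only [commutatorElement_def]; group, hc, mul_inv_cancel_right]
    exact (Subgroup.mem_center_iff.1 (comm_central hb b.2 (X_memQ j.2)) _).symm

theorem pairHom_apply (q : ↥Q) (j : Fin 12) :
    ((pairHom hb q j : ↥(Subgroup.center C1)) : C1) = ⁅(q : C1), X j⁆ := rfl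

theorem comm_yk (m : Nat) {j : Nat} (hj : j < 12) : ⁅yk m, X j⁆ = z1 ^ pairSum m j := by
  have key : ∀ r ≤ 12, (Nat.rec (motive := fun _ => C1) 1
      (fun i v => cond (Nat.testBit m i) (X i * v) v) r : C1) ∈ Q ∧
      ⁅(Nat.rec (motive := fun _ => C1) 1
      (fun i v => cond (Nat.testBit m i) (X i * v) v) r : C1), X j⁆ =
      z1 ^ (Nat.rec (motive := fun _ => Nat) 0 (fun i v =>
        cond (Nat.testBit m i && Nat.testBit (pairing.getD i 0) j) (v + 1) v) r : Nat) := by
    intro r
    induction r with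
    | zero => exact fun _ => ⟨one_mem Q, by simp [commutatorElement_def]⟩
    | succ r ih =>
      intro hr
      obtain ⟨hm, he⟩ := ih (by omega)
      show (cond (Nat.testBit m r) _ _ : C1) ∈ Q ∧
        ⁅(cond (Nat.testBit m r) _ _ : C1), X j⁆ = z1 ^ (cond (_ && _) _ _ : Nat)
      rcases hb1 : Nat.testBit m r with _ | _
      · exact ⟨hm, he⟩
      · simp only [cond_true, Bool.true_and]
        refine ⟨mul_mem (X_memQ (by omega)) hm, ?_⟩
        have := congrFun (map_mul (pairHom hb) ⟨X r, X_memQ (by omega)⟩ ⟨_, hm⟩) ⟨j, hj⟩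
        have := congrArg Subtype.val this
        simp only [pairHom_apply, Pi.mul_apply, Subgroup.coe_mul] at this
        refine this.trans ?_
        rw [he, comm_X hb (by omega) hj]
        rcases Nat.testBit (pairing.getD r 0) j with _ | _
        · simp
        · simp only [if_true, pow_one, cond_true]
          rw [← pow_succ']
  exact (key 12 le_rfl).2

theorem pairHom_dual (k : Fin 12) : pairHom hb ⟨yk (dual.getD k 0), yk_mem _⟩ =
    Pi.mulSingle k ⟨z1, z1_central⟩ := by
  funext j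
  refine Subtype.ext ?_
  rw [pairHom_apply, comm_yk hb _ j.2, z1_pow]
  have h := allBelow_eq_true.1 (allBelow_eq_true.1 dual_ok k k.2) j j.2
  rw [Nat.beq_eq] at h
  rw [h]
  rcases eq_or_ne j k with rfl | hne
  · rw [Pi.mulSingle_eq_same, show Nat.beq (j : Nat) j = true from Nat.beq_refl _, cond_true,
      pow_one]
  · rw [Pi.mulSingle_eq_of_ne hne, show Nat.beq (k : Nat) j = false from by
      rw [← Bool.not_eq_true, Nat.beq_eq]; exact fun h => hne (Fin.ext h.symm), cond_false, pow_zero]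
    rfl

theorem card_Q : Nat.card ↥Q = 8192 := by
  obtain ⟨-, hN, hθ, -, hker⟩ := counts hb
  have h1 : Q.index = QP.relIndex ψ.range := Subgroup.index_comap _ _
  have h2 := Q.card_mul_index
  have hle : QP ≤ ψ.range :=
    (Subgroup.closure_le _).2 fun _ ⟨j, e⟩ => ⟨X j, e⟩
  have h3 : QP.relIndex ψ.range * Nat.card ↥QP = Nat.card ↥ψ.range := by
    rw [Subgroup.relIndex, ← Nat.card_congr (Subgroup.subgroupOfEquivOfLe hle).toEquiv,
      Subgroup.index_mul_card]
  have h4 : Nat.card ↥ψ.ker * Nat.card ↥ψ.range = Nat.card C1 := by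
    have h := ψ.ker.card_mul_index
    rwa [Subgroup.index_ker] at h
  have h5 : Nat.card ↥ψ.ker = 2 := by
    refine Nat.card_eq_two_iff.2 ⟨1, ⟨z1, ψ_z1⟩, fun h => z1_ne_one (congrArg Subtype.val h).symm, ?_⟩
    refine Set.eq_univ_of_forall fun g => ?_
    rcases hker _ g.2 with e | e
    exacts [Or.inl (Subtype.ext e), Or.inr (Subtype.ext e)]
  rw [h1, ← h4, h5, ← h3, card_QP] at h2
  have hpos : 0 < QP.relIndex ψ.range := by
    rcases Nat.eq_zero_or_pos (QP.relIndex ψ.range) with h | h
    · rw [h, zero_mul] at h3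
      exact absurd h3.symm Nat.card_pos.ne'
    · exact h
  refine Nat.eq_of_mul_eq_mul_right hpos ?_
  rw [h2]
  ring

theorem pairHom_ker {q : ↥Q} (h : pairHom hb q = 1) : (q : C1) = 1 ∨ (q : C1) = z1 := by
  classical
  set f := pairHom hb
  let zc : ↥(Subgroup.center C1) := ⟨z1, z1_central⟩
  have hzc : zc ≠ 1 := fun e => z1_ne_one (congrArg Subtype.val e)
  have hmem : ∀ e : Fin 12 → Bool, (fun j => cond (e j) zc 1) ∈ f.range := fun e =>
    Subgroup.pi_mem_of_mulSingle_mem _ fun k => by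
      rcases e k with _ | _
      · rw [cond_false, Pi.mulSingle_one]; exact one_mem _
      · exact ⟨_, pairHom_dual hb k⟩
  have hbig : 4096 ≤ Nat.card ↥f.range := by
    refine le_of_eq_of_le (by simp) (Nat.card_le_card_of_injective
      (fun e : Fin 12 → Bool => (⟨_, hmem e⟩ : ↥f.range)) fun a b hab => funext fun j => ?_)
    have := congrFun (congrArg Subtype.val hab) j
    cases ha : a j <;> cases hb' : b j <;> simp_all
  have hc := f.ker.card_mul_index
  rw [Subgroup.index_ker, card_Q hb] at hc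
  have hk : Nat.card ↥f.ker ≤ 2 := by
    by_contra hcon
    have := Nat.mul_le_mul (show 3 ≤ Nat.card ↥f.ker by omega) hbig
    omega
  haveI : Fintype ↥f.ker := Fintype.ofFinite _
  by_contra hne
  push Not at hne
  have hz : (⟨z1, z1_mem⟩ : ↥Q) ∈ f.ker := by
    refine funext fun j => Subtype.ext ?_
    rw [pairHom_apply]
    exact commutatorElement_eq_one_iff_commute.2 (Subgroup.mem_center_iff.1 z1_central _).symm
  have h3 : ({⟨1, one_mem _⟩, ⟨⟨z1, z1_mem⟩, hz⟩, ⟨q, h⟩} : Finset ↥f.ker).card = 3 := by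
    rw [Finset.card_insert_of_notMem, Finset.card_pair]
    · intro e
      exact hne.2 (congrArg (fun x : ↥f.ker => ((x : ↥Q) : C1)) e).symm
    · simp only [Finset.mem_insert, Finset.mem_singleton, not_or]
      exact ⟨fun e => z1_ne_one (congrArg (fun x : ↥f.ker => ((x : ↥Q) : C1)) e).symm,
        fun e => hne.1 (congrArg (fun x : ↥f.ker => ((x : ↥Q) : C1)) e).symm⟩
  have := Finset.card_le_univ ({⟨1, one_mem _⟩, ⟨⟨z1, z1_mem⟩, hz⟩, ⟨q, h⟩} : Finset ↥f.ker)
  rw [h3, ← Nat.card_eq_fintype_card] at this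
  omega

theorem center_of_comm {q : C1} (hq : q ∈ Q) (h : ∀ x ∈ Q, Commute q x) : q = 1 ∨ q = z1 :=
  pairHom_ker hb (q := ⟨q, hq⟩) (funext fun j => Subtype.ext (by
    rw [pairHom_apply]
    exact commutatorElement_eq_one_iff_commute.2 (h _ (X_memQ j.2))))

theorem extraspecial_Q : Cfsg.IsExtraspecial 2 ↥Q := by
  have hp : IsPGroup 2 ↥Q := IsPGroup.of_card (n := 13) (by rw [card_Q hb]; norm_num)
  refine Cfsg.Agent.LargeExtra.extraspecial_of hp (w := ⟨z1, z1_mem⟩)
    (fun e => z1_ne_one (congrArg Subtype.val e)) (Subtype.ext z1_sq)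
    (Subgroup.mem_center_iff.2 fun g => Subtype.ext (Subgroup.mem_center_iff.1 z1_central g))
    (fun c hc => ?_) (fun a b => ?_) (fun a => ?_) ?_
  · rcases center_of_comm hb c.2 (fun x hx => congrArg Subtype.val
      (Subgroup.mem_center_iff.1 hc ⟨x, hx⟩).symm) with e | e
    exacts [Or.inl (Subtype.ext e), Or.inr (Subtype.ext e)]
  · rcases comm_cases hb a.2 b.2 with e | e
    exacts [Or.inl (Subtype.ext e), Or.inr (Subtype.ext e)]
  · rcases sq_cases hb a.2 with e | e
    exacts [Or.inl (Subtype.ext e), Or.inr (Subtype.ext e)]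
  · refine ⟨⟨yk (dual.getD 0 0), yk_mem _⟩, ⟨X 0, X_memQ (by norm_num)⟩, fun e => z1_ne_one ?_⟩
    have h := congrFun (pairHom_dual hb 0) 0
    rw [Pi.mulSingle_eq_same] at h
    exact (congrArg Subtype.val h).symm.trans
      (commutatorElement_eq_one_iff_commute.2 (congrArg Subtype.val e))

end Bound

end Cfsg.Agent.Fi24Four
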