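import Cfsg.Agent.Fi24Four.Defs

/-!
Lemmas for certificates about finite permutation groups: restriction to an invariant numbered
family, and lower bounds from chains of orbits.
-/

set_option autoImplicit false

namespace Cfsg.Agent.Fi24Four

open Cfsg.Agent.Compute

section Restrict

variable {K : Type*} [Group K] {α : Type*} {n : ℕ} (f : K →* Equiv.Perm α) (b : Fin n → α)
  (hb : Function.Injective b) (hpres : ∀ (h : K) (i : Fin n), ∃ j, f h (b i) = b j)

/-- The action on a numbered invariant family. -/
noncomputable def restrictHom : K →* Equiv.Perm (Fin n) :=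
  MonoidHom.mk' (fun h => Equiv.ofBijective (fun i => (hpres h i).choose) (by
    refine Finite.injective_iff_bijective.1 fun i j hij => hb ((f h).injective ?_)
    rw [(hpres h i).choose_spec, (hpres h j).choose_spec]
    exact congrArg b hij)) fun g h => by
  ext i
  refine congrArg Fin.val (hb ?_)
  simp only [Equiv.Perm.mul_apply, Equiv.ofBijective_apply]
  calc b (hpres (g * h) i).choose = f (g * h) (b i) := (hpres (g * h) i).choose_spec.symm
    _ = f g (f h (b i)) := by rw [map_mul, Equiv.Perm.mul_apply]
    _ = f g (b (hpres h i).choose) := congrArg (f g) (hpres h i).choose_spec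
    _ = _ := (hpres g _).choose_spec

theorem restrictHom_spec (h : K) (i : Fin n) : b (restrictHom f b hb hpres h i) = f h (b i) :=
  (hpres h i).choose_spec.symm

theorem restrictHom_eq {h : K} {i j : Fin n} (e : f h (b i) = b j) :
    restrictHom f b hb hpres h i = j :=
  hb ((restrictHom_spec f b hb hpres h i).trans e)

end Restrict

/-- Invariance passes from generators to the group they generate. -/
theorem pres_closure {G : Type*} [Group G] [Finite G] {α : Type*} {n : ℕ} {S : Set G}
    (f : G →* Equiv.Perm α) (b : Fin n → α) (h : ∀ s ∈ S, ∀ i, ∃ j, f s (b i) = b j) {g : G}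
    (hg : g ∈ Subgroup.closure S) : ∀ i, ∃ j, f g (b i) = b j := by
  rw [← Subgroup.mem_toSubmonoid, Subgroup.closure_toSubmonoid_of_finite] at hg
  induction hg using Submonoid.closure_induction with
  | mem s hs => exact h s hs
  | one => exact fun i => ⟨i, by simp⟩
  | mul u v _ _ hu hv =>
    intro i
    obtain ⟨j, hj⟩ := hv i
    obtain ⟨k, hk⟩ := hu j
    exact ⟨k, by rw [map_mul, Equiv.Perm.mul_apply, hj, hk]⟩

/-- The group generated by some numbered permutations. -/
def genGroup {n : ℕ} (e : ℕ → Equiv.Perm (Fin n)) (gs : List ℕ) : Subgroup (Equiv.Perm (Fin n)) :=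
  Subgroup.closure (e '' {g | g ∈ gs})

theorem chain_lower {n m : ℕ} (ap : ℕ → ℕ → ℕ) (e : ℕ → Equiv.Perm (Fin n))
    (hap : ∀ g < m, ∀ p : Fin n, ((e g p : Fin n) : ℕ) = ap g p) :
    ∀ L : List Lvl, chainB ap n m L = true → chainSz L ≤ Nat.card (genGroup e (topGens L))
  | [], _ => by
    rw [chainSz]
    exact Nat.one_le_iff_ne_zero.2 Nat.card_pos.ne'
  | l :: r, h => by
    classical
    simp only [chainB, Bool.and_eq_true, List.all_eq_true, List.contains_iff_mem, Nat.beq_eq] at h
    obtain ⟨⟨ho, hnext⟩, hr⟩ := h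
    simp only [orbB, Bool.and_eq_true, Bool.or_eq_true, List.all_eq_true, allBelow_eq_true,
      Nat.blt_eq, Nat.beq_eq, List.contains_iff_mem, Bool.not_eq_true', ← Bool.not_eq_true] at ho
    obtain ⟨⟨⟨hlen, hbase⟩, hgm⟩, horb⟩ := ho
    set K := genGroup e l.2.1 with hK
    have hP : ∀ j, j < l.2.2.length → (l.2.2.getD j (0, 0, 0)).1 < n := fun j hj => (horb j hj).1.1
    have hb : l.1 < n := hbase ▸ hP 0 hlen
    set b : Fin n := ⟨l.1, hb⟩ with hbdef
    have hmem : ∀ j (hj : j < l.2.2.length),
        (⟨(l.2.2.getD j (0, 0, 0)).1, hP j hj⟩ : Fin n) ∈ MulAction.orbit ↥K b := by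
      intro j
      induction j using Nat.strong_induction_on with
      | _ j ih =>
        intro hj
        rcases (horb j hj).2 with hj0 | ⟨⟨hpar, hg⟩, hap'⟩
        · subst hj0
          convert MulAction.mem_orbit_self (M := ↥K) b
        · obtain ⟨k, hk⟩ := ih _ hpar (hpar.trans hj)
          refine ⟨⟨e (l.2.2.getD j (0, 0, 0)).2.2, Subgroup.subset_closure ⟨_, hg, rfl⟩⟩ * k, ?_⟩
          apply Fin.ext
          show ((e _ ((k : Equiv.Perm (Fin n)) b) : Fin n) : ℕ) = _
          rw [show ((k : Equiv.Perm (Fin n)) b) = _ from hk, hap _ (hgm _ hg)]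
          exact hap'
    have horbit : l.2.2.length ≤ (MulAction.orbit ↥K b).ncard := by
      rw [← Nat.card_coe_set_eq]
      refine le_of_eq_of_le (Nat.card_fin _).symm
        (Nat.card_le_card_of_injective (fun j : Fin l.2.2.length => ⟨_, hmem j j.2⟩) ?_)
      intro i j hij
      have h' : (l.2.2.getD (i : ℕ) (0, 0, 0)).1 = (l.2.2.getD (j : ℕ) (0, 0, 0)).1 :=
        congrArg (fun x : MulAction.orbit ↥K b => ((x : Fin n) : ℕ)) hij
      rcases lt_trichotomy (i : ℕ) j with hl | hl | hl
      · exact absurd h' ((horb j j.2).1.2 i hl)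
      · exact Fin.ext hl
      · exact absurd h'.symm ((horb i i.2).1.2 j hl)
    have hle : genGroup e (topGens r) ≤ (MulAction.stabilizer ↥K b).map K.subtype := by
      rw [genGroup, Subgroup.closure_le]
      rintro _ ⟨g, hg, rfl⟩
      obtain ⟨hg1, hg2⟩ := hnext g hg
      refine ⟨⟨e g, Subgroup.subset_closure ⟨g, hg1, rfl⟩⟩, ?_, rfl⟩
      show e g b = b
      exact Fin.ext ((hap g (hgm g hg1) b).trans hg2)
    have hcard : chainSz r ≤ Nat.card ↥(MulAction.stabilizer ↥K b) := by
      refine (chain_lower ap e hap r hr).trans ((Subgroup.card_le_of_le hle).trans_eq ?_)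
      exact Subgroup.card_map_of_injective K.subtype_injective
    calc chainSz (l :: r) = l.2.2.length * chainSz r := rfl
      _ ≤ (MulAction.orbit ↥K b).ncard * Nat.card ↥(MulAction.stabilizer ↥K b) :=
          Nat.mul_le_mul horbit hcard
      _ = _ := by rw [← MulAction.index_stabilizer, Subgroup.index_mul_card]; rfl

/-- A homomorphism from two elements into the involution-generated power group. -/
noncomputable def sqHom {A : Type*} [Group A] (a : A) (h : a * a = 1) :
    Multiplicative (ZMod 2) →* A where
  toFun x := if x.toAdd = 0 then 1 else a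
  map_one' := if_pos rfl
  map_mul' x y := by
    rcases (by decide : ∀ u : ZMod 2, u = 0 ∨ u = 1) x.toAdd with hx | hx <;>
      rcases (by decide : ∀ u : ZMod 2, u = 0 ∨ u = 1) y.toAdd with hy | hy <;>
      simp [hx, hy, h, show (1 + 1 : ZMod 2) = 0 from by decide]

/-- Commuting involutions generate a group of order at most a power of two. -/
theorem card_closure_invol {A : Type*} [Group A] {r : ℕ} (x : Fin r → A) (hsq : ∀ i, x i * x i = 1)
    (hc : ∀ i j, Commute (x i) (x j)) :
    Nat.card (Subgroup.closure (Set.range x)) ≤ 2 ^ r := by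
  classical
  have hcomm : Pairwise fun i j => ∀ u v, Commute (sqHom (x i) (hsq i) u) (sqHom (x j) (hsq j) v) := by
    intro i j _ u v
    simp only [sqHom, MonoidHom.coe_mk, OneHom.coe_mk]
    split_ifs <;> first | exact Commute.one_left _ | exact Commute.one_right _ | exact hc i j
  set F := MonoidHom.noncommPiCoprod (fun i => sqHom (x i) (hsq i)) hcomm
  have hle : Subgroup.closure (Set.range x) ≤ F.range := by
    rw [Subgroup.closure_le]
    rintro _ ⟨i, rfl⟩
    refine ⟨Pi.mulSingle i (Multiplicative.ofAdd 1), ?_⟩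
    rw [MonoidHom.noncommPiCoprod_mulSingle]
    simp [sqHom]
  refine (Subgroup.card_le_of_le hle).trans
    ((Nat.card_le_card_of_surjective F.rangeRestrict F.rangeRestrict_surjective).trans_eq ?_)
  rw [Nat.card_pi]
  simp

end Cfsg.Agent.Fi24Four
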