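import Cfsg.Agent.Fi24.Simple
import Cfsg.Agent.Fi24Four.Tools
import Cfsg.Agent.Fi24Four.CheckPts
import Cfsg.Agent.Fi24Four.CheckBlk
import Cfsg.Agent.Fi24Four.CheckPerm

/-!
The generators of the centraliser of `z = l a c e` in the derived group of Fi24, their action on
the 504 fixed points of `z` and on the 112 blocks.
-/

set_option autoImplicit false
set_option maxRecDepth 100000

namespace Cfsg.Agent.Fi24Four

open Cfsg.Agent.CosetCert Cfsg.Agent.Compute Cfsg.Agent.Fi24

attribute [local irreducible] pm tv bit pt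

/-- The product of the four transpositions. -/
noncomputable abbrev z : G := el zW

/-- The centraliser in the derived group. -/
noncomputable abbrev C : Subgroup G := commutator G ⊓ Subgroup.centralizer ({z} : Set G)

theorem sign_el : ∀ {w : List Nat}, (∀ x ∈ w, x < 12) →
    sign (el w) = Multiplicative.ofAdd (w.length : ZMod 2)
  | [], _ => by rw [el_nil, map_one]; rfl
  | x :: t, h => by
    rw [show x :: t = [x] ++ t from rfl, el_append, map_mul,
      el_single (h x (List.mem_cons_self ..)), sign_gen,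
      sign_el fun y hy => h y (List.mem_cons_of_mem _ hy), ← ofAdd_add, List.length_append,
      List.length_singleton, Nat.cast_add, Nat.cast_one]

theorem commute_el {u : G} : ∀ {w : List Nat}, (∀ x ∈ w, Commute u (el [x])) → Commute u (el w)
  | [], _ => by rw [el_nil]; exact Commute.one_right u
  | x :: t, h => by
    rw [show x :: t = [x] ++ t from rfl, el_append]
    exact (h x (List.mem_cons_self ..)).mul_right (commute_el fun y hy => h y (List.mem_cons_of_mem _ hy))

theorem commute_gen {x y : Cfsg.Spor.Fi24.Gen}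
    (h : Cfsg.Spor.coxLabel Cfsg.Spor.Fi24.edges x y = 2) : Commute (gen x) (gen y) := by
  have hn : ∀ v : Cfsg.Spor.Fi24.Gen, v ∈ Cfsg.Spor.coxNodes Cfsg.Spor.Fi24.edges := by
    intro v; cases v <;> decide
  have h2 := PresentedGroup.one_of_mem (rels := R)
    (x := (FreeGroup.of x * FreeGroup.of y) ^ 2) (Or.inl ⟨x, hn x, y, hn y, by rw [h]⟩)
  rw [map_pow, map_mul, pow_two] at h2
  have h3 : gen x * gen y = (gen x * gen y)⁻¹ := eq_inv_of_mul_eq_one_left h2
  rwa [mul_inv_rev, gen_inv, gen_inv] at h3

theorem commute_single {x : Nat} (hx : x ∈ [1, 3, 6, 7, 10, 11]) : Commute (el [x]) z := by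
  refine commute_el fun y hy => ?_
  have hx' : x < 12 := by revert x; decide
  have hy' : y < 12 := by revert y; decide
  rw [el_single hx', el_single hy']
  rcases (by revert x; decide : ∀ v ∈ zW, x = v ∨ Cfsg.Spor.coxLabel Cfsg.Spor.Fi24.edges
    (Fi24Index.dec x).1 (Fi24Index.dec v).1 = 2) y hy with rfl | h
  exacts [Commute.refl _, commute_gen h]

theorem commute_swap : Commute (el [2, 3, 1, 2]) z := by
  have hA : gen (Fi24Index.dec 1).1 = gen .a := rfl
  have hB : gen (Fi24Index.dec 2).1 = gen .b := rfl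
  have hC : gen (Fi24Index.dec 3).1 = gen .c := rfl
  have hE : gen (Fi24Index.dec 7).1 = gen .e := rfl
  have hl : gen (Fi24Index.dec 11).1 = gen .l := rfl
  have e4 : ∀ p q r s : Nat, p < 12 → q < 12 → r < 12 → s < 12 → el [p, q, r, s] =
      gen (Fi24Index.dec p).1 * gen (Fi24Index.dec q).1 * gen (Fi24Index.dec r).1 *
        gen (Fi24Index.dec s).1 := by
    intro p q r s hp hq hr hs
    rw [show [p, q, r, s] = [p] ++ [q] ++ [r] ++ [s] from rfl, el_append, el_append, el_append,
      el_single hp, el_single hq, el_single hr, el_single hs]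
  rw [z, show zW = [11, 1, 3, 7] from rfl, e4 2 3 1 2 (by norm_num) (by norm_num) (by norm_num)
    (by norm_num), e4 11 1 3 7 (by norm_num) (by norm_num) (by norm_num) (by norm_num),
    hA, hB, hC, hE, hl]
  set A := gen Cfsg.Spor.Fi24.Gen.a
  set B := gen Cfsg.Spor.Fi24.Gen.b
  set C' := gen Cfsg.Spor.Fi24.Gen.c
  have ac : A * C' = C' * A := commute_gen (by decide)
  have aba : A * B * A = B * A * B := braid (by decide)
  have cbc : C' * B * C' = B * C' * B := braid (by decide)
  have w1 : B * C' * A * B * A = C' * (B * C' * A * B) := by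
    calc B * C' * A * B * A = B * C' * (A * B * A) := by simp only [mul_assoc]
      _ = (B * C' * B) * A * B := by rw [aba]; simp only [mul_assoc]
      _ = _ := by rw [← cbc]; simp only [mul_assoc]
  have w2 : B * C' * A * B * C' = A * (B * C' * A * B) := by
    calc B * C' * A * B * C' = B * (A * C') * B * C' := by rw [ac]; simp only [mul_assoc]
      _ = B * A * (C' * B * C') := by simp only [mul_assoc]
      _ = (B * A * B) * (C' * B) := by rw [cbc]; simp only [mul_assoc]
      _ = A * B * (A * C') * B := by rw [← aba]; simp only [mul_assoc]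
      _ = _ := by rw [ac]; simp only [mul_assoc]
  have hWl : Commute (B * C' * A * B) (gen .l) :=
    (((commute_gen (by decide)).mul_left (commute_gen (by decide))).mul_left
      (commute_gen (by decide))).mul_left (commute_gen (by decide))
  have hWe : Commute (B * C' * A * B) (gen .e) :=
    (((commute_gen (by decide)).mul_left (commute_gen (by decide))).mul_left
      (commute_gen (by decide))).mul_left (commute_gen (by decide))
  set W := B * C' * A * B
  show W * _ = _
  calc W * (gen .l * A * C' * gen .e) = (W * gen .l) * A * C' * gen .e := by simp only [mul_assoc]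
    _ = gen .l * (W * A) * C' * gen .e := by rw [hWl.eq]; simp only [mul_assoc]
    _ = gen .l * C' * (W * C') * gen .e := by rw [w1]; simp only [mul_assoc]
    _ = gen .l * (C' * A) * (W * gen .e) := by rw [w2]; simp only [mul_assoc]
    _ = _ := by rw [← ac, hWe.eq]; simp only [mul_assoc]

theorem commute_member {u : List Nat} (hu : ∀ x ∈ u, x < 12)
    (h : Fi24Index.data.fwd zW.reverse (Fi24Index.data.fwd u.reverse 0) =
      Fi24Index.data.fwd u.reverse 0) : Commute (el (u ++ [11] ++ u.reverse)) z := by
  have hfix : φ z (φ (el u) c0) = φ (el u) c0 := by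
    refine Fin.ext ?_
    rw [φ_apply _ (by decide), φ_apply _ hu]
    exact h
  have hH : (el u)⁻¹ * z * el u ∈ H := fix_iff.1 (by
    rw [map_mul, map_mul, Equiv.Perm.mul_apply, Equiv.Perm.mul_apply, hfix, map_inv,
      ← Equiv.Perm.mul_apply, inv_mul_cancel, Equiv.Perm.one_apply])
  have hc : Commute ((el u)⁻¹ * z * el u) Fi24.L := L_comm hH
  have h' := (Commute.conj_iff (el u)).2 hc
  rw [show el u * ((el u)⁻¹ * z * el u) * (el u)⁻¹ = z from by group] at h'
  rw [el_append, el_append, el_reverse hu, el_single (by norm_num)]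
  exact h'.symm

theorem commute_factor {x : Bool × List Nat} (h : facB x = true) :
    Commute (el (cond x.1 (x.2 ++ [11] ++ x.2.reverse) x.2)) z := by
  obtain ⟨b, u⟩ := x
  cases b
  · have hp : u ∈ plain := List.contains_iff_mem.1 h
    simp only [plain, List.mem_cons, List.not_mem_nil, or_false] at hp
    rcases hp with rfl | rfl | rfl | rfl | rfl | rfl | rfl | rfl
    iterate 6 exact commute_single (by decide)
    · exact commute_swap
    · rw [cond_false, show [2, 1, 3, 2] = [2, 3, 1, 2].reverse from rfl, el_reverse (by decide)]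
      exact commute_swap.inv_left
  · simp only [facB, cond_true, Bool.and_eq_true, List.all_eq_true, Nat.blt_eq, Nat.beq_eq] at h
    exact commute_member h.1 h.2

theorem leaf_spec {i : Nat} (hi : i < 20) :
    (∀ x ∈ word i, x < 12) ∧ el (word i) ∈ C := by
  have h := allBelow_eq_true.1 leaves_ok i hi
  simp only [Bool.and_eq_true, List.all_eq_true, Nat.blt_eq, Nat.beq_eq] at h
  obtain ⟨⟨hf, hlt⟩, hev⟩ := h
  refine ⟨hlt, Subgroup.mem_inf.2 ⟨?_, Subgroup.mem_centralizer_singleton_iff.2 ?_⟩⟩
  · rw [commutator_eq, MonoidHom.mem_ker, sign_el hlt, ofAdd_eq_one,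
      ZMod.natCast_eq_zero_iff_even, Nat.even_iff]
    exact hev
  · have key : ∀ f : List (Bool × List Nat), (∀ x ∈ f, facB x = true) →
        Commute (el (wordOf f)) z := by
      intro f hf
      induction f with
      | nil =>
        rw [show wordOf [] = [] from rfl, el_nil]
        exact Commute.one_left _
      | cons x t ih =>
        rw [show wordOf (x :: t) = cond x.1 (x.2 ++ [11] ++ x.2.reverse) x.2 ++ wordOf t from rfl,
          el_append]
        exact (commute_factor (hf x (List.mem_cons_self ..))).mul_left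
          (ih fun y hy => hf y (List.mem_cons_of_mem _ hy))
    exact (key _ hf).eq

/-- The group generated by the listed words. -/
noncomputable def C1 : Subgroup G := Subgroup.closure ((fun i => el (word i)) '' {i | i < 20})

theorem C1_le : C1 ≤ C := (Subgroup.closure_le _).2 fun _ ⟨_, hi, e⟩ => e ▸ (leaf_spec hi).2

/-- A listed element. -/
noncomputable def lf (i : Nat) : C1 :=
  if h : i < 20 then ⟨el (word i), Subgroup.subset_closure ⟨i, h, rfl⟩⟩ else 1

theorem lf_val {i : Nat} (hi : i < 20) : (lf i : G) = el (word i) := by simp only [lf, dif_pos hi]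

theorem pt_mono : ∀ {i j : Nat}, i < j → j < 504 → pt i < pt j := by
  have h := pts_inc
  simp only [Bool.and_eq_true, allBelow_eq_true, Nat.blt_eq] at h
  intro i j hij
  induction hij with
  | refl => exact fun hj => h.2 i (by omega)
  | step _ ih => exact fun hj => (ih (by omega)).trans (h.2 _ (by omega))

theorem pt_lt {i : Nat} (hi : i < 504) : pt i < 306936 := by
  have h := pts_inc
  simp only [Bool.and_eq_true, Nat.blt_eq] at h
  rcases Nat.lt_or_eq_of_le (Nat.le_of_lt_succ hi : i ≤ 503) with h' | rfl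
  exacts [(pt_mono h' (by norm_num)).trans h.1, h.1]

/-- The fixed points. -/
noncomputable def ptF (i : Fin 504) : Fin 306936 := ⟨pt i, pt_lt i.2⟩

theorem ptF_injective : Function.Injective ptF := fun i j h => by
  have e : pt i = pt j := congrArg Fin.val h
  rcases lt_trichotomy (i : Nat) j with hl | hl | hl
  · exact absurd e (pt_mono hl j.2).ne
  · exact Fin.ext hl
  · exact absurd e (pt_mono hl i.2).ne'

theorem ptsB_spec {i : Nat} (hi : i < 20) : ptsB (word i).reverse i = true := by
  rcases Nat.lt_or_ge i 5 with h1 | h1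
  · exact allBelow_eq_true.1 ptsA i h1
  rcases Nat.lt_or_ge i 10 with h2 | h2
  · have := allBelow_eq_true.1 ptsC' (i - 5) (by omega)
    rwa [show 5 + (i - 5) = i by omega] at this
  rcases Nat.lt_or_ge i 15 with h3 | h3
  · have := allBelow_eq_true.1 ptsD (i - 10) (by omega)
    rwa [show 10 + (i - 10) = i by omega] at this
  · have := allBelow_eq_true.1 ptsE (i - 15) (by omega)
    rwa [show 15 + (i - 15) = i by omega] at this

theorem blkB_spec {i : Nat} (hi : i < 20) : blkB i = true := by
  rcases Nat.lt_or_ge i 4 with h1 | h1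
  · exact allBelow_eq_true.1 blkA i h1
  rcases Nat.lt_or_ge i 8 with h2 | h2
  · have := allBelow_eq_true.1 blkC (i - 4) (by omega)
    rwa [show 4 + (i - 4) = i by omega] at this
  rcases Nat.lt_or_ge i 12 with h3 | h3
  · have := allBelow_eq_true.1 blkD (i - 8) (by omega)
    rwa [show 8 + (i - 8) = i by omega] at this
  rcases Nat.lt_or_ge i 16 with h4 | h4
  · have := allBelow_eq_true.1 blkE (i - 12) (by omega)
    rwa [show 12 + (i - 12) = i by omega] at this
  · have := allBelow_eq_true.1 blkF (i - 16) (by omega)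
    rwa [show 16 + (i - 16) = i by omega] at this

theorem pm_lt {i : Nat} (hi : i < 20) {p : Nat} (hp : p < 504) : pm i p < 504 := by
  have h := allBelow_eq_true.1 (ptsB_spec hi) p hp
  simp only [Bool.and_eq_true, Nat.blt_eq] at h
  exact h.1

theorem φ_lf {i : Nat} (hi : i < 20) (p : Fin 504) :
    φ (el (word i)) (ptF p) = ptF ⟨pm i p, pm_lt hi p.2⟩ := by
  refine Fin.ext ?_
  rw [φ_apply _ (leaf_spec hi).1]
  have h := allBelow_eq_true.1 (ptsB_spec hi) p p.2
  simp only [Bool.and_eq_true, Nat.beq_eq] at h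
  exact h.2

theorem pres_pts (g : C1) (i : Fin 504) : ∃ j, (φ.comp C1.subtype) g (ptF i) = ptF j :=
  pres_closure φ ptF (by
    rintro _ ⟨k, hk, rfl⟩ p
    exact ⟨_, φ_lf hk p⟩) g.2 i

/-- The action on the fixed points. -/
noncomputable def ψ : C1 →* Equiv.Perm (Fin 504) :=
  restrictHom (φ.comp C1.subtype) ptF ptF_injective pres_pts

theorem ψ_lf {i : Nat} (hi : i < 20) (p : Fin 504) : (ψ (lf i) p : Nat) = pm i p := by
  rw [ψ, restrictHom_eq (j := ⟨pm i p, pm_lt hi p.2⟩)]
  show φ (lf i : G) (ptF p) = _
  rw [lf_val hi, φ_lf hi]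

/-- Permutations on sets. -/
noncomputable def setHom {β : Type} : Equiv.Perm β →* Equiv.Perm (Set β) :=
  MonoidHom.mk' Equiv.Set.congr fun a b => by
    ext s x
    simp [Equiv.Set.congr, Set.image_image]

theorem setHom_apply {β : Type} (σ : Equiv.Perm β) (s : Set β) : setHom σ s = σ '' s := rfl

theorem bit_lt (q p : Nat) : bit q p < 2 := by
  unfold bit getField
  exact Nat.lt_of_le_of_lt Nat.and_le_right (by decide)

/-- A block. -/
noncomputable def blk (q : Fin 112) : Set (Fin 504) := {p | bit q p = 1}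

theorem blk_injective : Function.Injective blk := by
  intro q r h
  have key : ∀ a b : Fin 112, (b : Nat) < a → blk a ≠ blk b := by
    intro a b hab he
    have h1 := allBelow_eq_true.1 (allBelow_eq_true.1 blk_inj a a.2) b hab
    rw [Bool.not_eq_true', ← Bool.not_eq_true] at h1
    refine h1 (allBelow_eq_true.2 fun p hp => ?_)
    have h2 : bit a p = 1 ↔ bit b p = 1 := Set.ext_iff.1 he ⟨p, hp⟩
    have := bit_lt a p
    have := bit_lt b p
    rw [Nat.beq_eq]
    omega
  rcases lt_trichotomy (q : Nat) r with hl | hl | hl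
  exacts [absurd h.symm (key r q hl), Fin.ext hl, absurd h (key q r hl)]

theorem tv_lt {i : Nat} (hi : i < 20) {q : Nat} (hq : q < 112) : tv i q < 112 := by
  have h := allBelow_eq_true.1 (blkB_spec hi) q hq
  simp only [Bool.and_eq_true, Nat.blt_eq] at h
  exact h.1

theorem image_blk {i : Nat} (hi : i < 20) (q : Fin 112) :
    ψ (lf i) '' blk q = blk ⟨tv i q, tv_lt hi q.2⟩ := by
  have h := allBelow_eq_true.1 (blkB_spec hi) q q.2
  simp only [Bool.and_eq_true, allBelow_eq_true, Nat.beq_eq] at h
  ext y
  obtain ⟨x, rfl⟩ := (ψ (lf i)).surjective y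
  rw [(ψ (lf i)).injective.mem_set_image]
  show bit q x = 1 ↔ bit (tv i q) (ψ (lf i) x : Nat) = 1
  rw [ψ_lf hi, h.2 x x.2]

theorem lf_generates (g : C1) : g ∈ Subgroup.closure (lf '' {i | i < 20}) := by
  have h : (g : G) ∈ (Subgroup.closure (lf '' {i | i < 20})).map C1.subtype := by
    rw [MonoidHom.map_closure, ← Set.image_comp,
      show (C1.subtype ∘ lf) '' {i | i < 20} = (fun i => el (word i)) '' {i | i < 20} from
        Set.image_congr fun i hi => lf_val hi]
    exact g.2
  obtain ⟨x, hx, e⟩ := h
  rwa [← Subtype.ext e]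

theorem pres_blk (g : C1) (q : Fin 112) : ∃ r, (setHom.comp ψ) g (blk q) = blk r :=
  pres_closure (setHom.comp ψ) blk (by
    rintro _ ⟨i, hi, rfl⟩ r
    exact ⟨_, image_blk hi r⟩) (lf_generates g) q

/-- The action on the blocks. -/
noncomputable def θ : C1 →* Equiv.Perm (Fin 112) :=
  restrictHom (setHom.comp ψ) blk blk_injective pres_blk

theorem θ_lf {i : Nat} (hi : i < 20) (q : Fin 112) : (θ (lf i) q : Nat) = tv i q := by
  rw [θ, restrictHom_eq (j := ⟨tv i q, tv_lt hi q.2⟩)]
  exact image_blk hi q

theorem θ_eq_one {g : C1} (h : ψ g = 1) : θ g = 1 := by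
  ext q
  refine congrArg Fin.val (restrictHom_eq _ _ _ _ ?_)
  rw [MonoidHom.comp_apply, h, map_one, Equiv.Perm.one_apply, Equiv.Perm.one_apply]

theorem recB_spec {k : Nat} (hk : k < 165) : recB k = true := by
  rcases Nat.lt_or_ge k 55 with h1 | h1
  · exact allBelow_eq_true.1 recA k h1
  rcases Nat.lt_or_ge k 110 with h2 | h2
  · have := allBelow_eq_true.1 recC (k - 55) (by omega)
    rwa [show 55 + (k - 55) = k by omega] at this
  · have := allBelow_eq_true.1 recD (k - 110) (by omega)
    rwa [show 110 + (k - 110) = k by omega] at this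

theorem exists_node : ∀ {k : Nat}, k < 185 →
    ∃ g : C1, (∀ p : Fin 504, (ψ g p : Nat) = pm k p) ∧ ∀ q : Fin 112, (θ g q : Nat) = tv k q := by
  intro k
  induction k using Nat.strong_induction_on with
  | _ k ih =>
    intro hk
    rcases Nat.lt_or_ge k 20 with h | h
    · exact ⟨lf k, ψ_lf h, θ_lf h⟩
    obtain ⟨j, rfl⟩ : ∃ j, k = 20 + j := ⟨k - 20, by omega⟩
    have hr := recB_spec (k := j) (by omega)
    simp only [recB, Bool.and_eq_true, allBelow_eq_true, Nat.blt_eq, Nat.beq_eq] at hr
    obtain ⟨⟨⟨h1, h2⟩, hp⟩, hq⟩ := hr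
    obtain ⟨a, a1, a2⟩ := ih _ h1 (by omega)
    obtain ⟨b, b1, b2⟩ := ih _ h2 (by omega)
    exact ⟨a * b, fun p => by rw [map_mul, Equiv.Perm.mul_apply, a1, b1, ← hp p p.2],
      fun q => by rw [map_mul, Equiv.Perm.mul_apply, a2, b2, ← hq q q.2]⟩

/-- A numbered element. -/
noncomputable def nd (k : Nat) : C1 := if h : k < 185 then (exists_node h).choose else 1

theorem nd_spec {k : Nat} (hk : k < 185) :
    (∀ p : Fin 504, (ψ (nd k) p : Nat) = pm k p) ∧ ∀ q : Fin 112, (θ (nd k) q : Nat) = tv k q := by
  simp only [nd, dif_pos hk]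
  exact (exists_node hk).choose_spec

/-- The element `z`. -/
noncomputable def z1 : C1 := lf 0

theorem z1_val : (z1 : G) = z := by rw [z1, lf_val (by norm_num), word_zero]

theorem z_moves_point : φ z ⟨1, by norm_num⟩ ≠ (⟨1, by norm_num⟩ : Fin 306936) := fun h => by
  refine z_moves.1 ?_
  have := congrArg Fin.val h
  rwa [φ_apply _ (by decide)] at this

theorem z1_ne_one : z1 ≠ 1 := fun h => z_moves_point (by
  rw [← z1_val, h, OneMemClass.coe_one, map_one]; rfl)

theorem z1_sq : z1 * z1 = 1 := by
  refine Subtype.ext ?_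
  rw [Subgroup.coe_mul, z1_val, OneMemClass.coe_one]
  have e : ∀ x : Nat, x < 12 → el [x] * el [x] = 1 := fun x hx => by rw [el_single hx, gen_sq]
  have c : ∀ x ∈ zW, ∀ y ∈ zW, Commute (el [x]) (el [y]) := by
    intro x hx y hy
    have hx' : x < 12 := by revert x; decide
    have hy' : y < 12 := by revert y; decide
    rw [el_single hx', el_single hy']
    rcases (by decide : ∀ u ∈ zW, ∀ v ∈ zW, u = v ∨ Cfsg.Spor.coxLabel Cfsg.Spor.Fi24.edges
      (Fi24Index.dec u).1 (Fi24Index.dec v).1 = 2) x hx y hy with rfl | h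
    exacts [Commute.refl _, commute_gen h]
  have sq : ∀ {a b : G}, a * a = 1 → b * b = 1 → Commute a b → a * b * (a * b) = 1 :=
    fun {a b} ha hb hab => by rw [← sq (a * b), hab.mul_pow, sq, sq, ha, hb, one_mul]
  rw [z, show zW = [11] ++ [1] ++ [3] ++ [7] from rfl, el_append, el_append, el_append]
  exact sq (sq (sq (e _ (by norm_num)) (e _ (by norm_num)) (c _ (by decide) _ (by decide)))
    (e _ (by norm_num)) ((c _ (by decide) _ (by decide)).mul_left (c _ (by decide) _ (by decide))))
    (e _ (by norm_num)) (((c _ (by decide) _ (by decide)).mul_left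
      (c _ (by decide) _ (by decide))).mul_left (c _ (by decide) _ (by decide)))

theorem z1_central : z1 ∈ Subgroup.center C1 := Subgroup.mem_center_iff.2 fun g => Subtype.ext (by
  rw [Subgroup.coe_mul, Subgroup.coe_mul, z1_val]
  exact Subgroup.mem_centralizer_singleton_iff.1 (C1_le g.2).2)

theorem ψ_z1 : ψ z1 = 1 := by
  ext p
  rw [z1, ψ_lf (by norm_num), Equiv.Perm.one_apply]
  exact Nat.eq_of_beq_eq_true (allBelow_eq_true.1 z_id p p.2)

end Cfsg.Agent.Fi24Four
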