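import Cfsg.Agent.Fi24Four.Quot
import Cfsg.Agent.LargeExtra.SingularSubgroup
import Cfsg.Agent.ThreeTrans.Y542.Iso
import Cfsg.Agent.ThreeTrans.InvolCen24

/-!
Type M(24): the centraliser in the derived group of a product of four commuting members.
-/

set_option autoImplicit false
set_option maxRecDepth 100000

universe u

namespace Cfsg.Agent.Fi24Four

open Cfsg.Agent.Fi24

theorem Shape.congr {X Y : Type*} [Group X] [Finite X] [Group Y] [Finite Y] (h : Shape X)
    (e : X ≃* Y) : Shape Y := by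
  obtain ⟨Q, hQn, hF, hes, hcard, N, M, hNn, hMn, hQN, hNM, hcN, ⟨K, i1, i2, hK, ⟨q⟩⟩, hidx⟩ := h
  haveI := hNn
  haveI := hMn
  have hs : Function.Surjective e.toMonoidHom := e.surjective
  haveI : (Q.map e.toMonoidHom).Normal := hQn.map _ hs
  haveI : (N.map e.toMonoidHom).Normal := hNn.map _ hs
  haveI : (M.map e.toMonoidHom).Normal := hMn.map _ hs
  have hmap : ∀ A : Subgroup X, Nat.card ↥(A.map e.toMonoidHom) = Nat.card ↥A := fun A =>
    Subgroup.card_map_of_injective e.injective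
  refine ⟨Q.map e.toMonoidHom, inferInstance, ?_,
    LargeExtra.extraspecial_congr (Q.equivMapOfInjective _ e.injective) hes, by rw [hmap, hcard],
    N.map e.toMonoidHom, M.map e.toMonoidHom, inferInstance, inferInstance, Subgroup.map_mono hQN,
    Subgroup.map_mono hNM, by rw [hmap, hmap, hcN], ⟨K, i1, i2, hK, ⟨?_⟩⟩, ?_⟩
  · rw [← Layer.map_generalizedFitting_equiv e, hF]
  · refine (QuotientGroup.congr (N.subgroupOf M)
      ((N.map e.toMonoidHom).subgroupOf (M.map e.toMonoidHom)) (e.subgroupMap M) ?_).symm.trans q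
    ext y
    constructor
    · rintro ⟨x, hx, rfl⟩
      exact ⟨_, hx, rfl⟩
    · rintro ⟨x, hx, hxy⟩
      exact ⟨⟨x, hNM hx⟩, hx, Subtype.ext hxy⟩
  · exact (Subgroup.index_map_equiv _ e).trans hidx

theorem el_four : z = gen .l * gen .a * gen .c * gen .e := by
  rw [z, show zW = [11] ++ [1] ++ [3] ++ [7] from rfl, el_append, el_append, el_append,
    el_single (by norm_num), el_single (by norm_num), el_single (by norm_num),
    el_single (by norm_num)]
  rfl

theorem four_distinct : [gen Cfsg.Spor.Fi24.Gen.l, gen .a, gen .c, gen .e].Nodup := by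
  have key : ∀ x y : Nat, x < 12 → y < 12 → ∀ c, c < 306936 →
      Cfsg.Agent.CosetCert.Fi24Index.data.fwd [x] c ≠ Cfsg.Agent.CosetCert.Fi24Index.data.fwd [y] c →
      el [x] ≠ el [y] := fun x y hx hy c hc h e =>
    ne_of_fwd (u := [x]) (v := [y]) (by simpa using hx) (by simpa using hy) hc h (congrArg φ e)
  have h11 : el [11] = gen .l := el_single (by norm_num)
  have h1 : el [1] = gen .a := el_single (by norm_num)
  have h3 : el [3] = gen .c := el_single (by norm_num)
  have h7 : el [7] = gen .e := el_single (by norm_num)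
  have hp : ∀ x ∈ [11, 1, 3, 7], ∀ y ∈ [11, 1, 3, 7], x ≠ y →
      Cfsg.Agent.CosetCert.Fi24Index.data.fwd [x] 3 ≠ Cfsg.Agent.CosetCert.Fi24Index.data.fwd [y] 3 ∨
      Cfsg.Agent.CosetCert.Fi24Index.data.fwd [x] 10 ≠ Cfsg.Agent.CosetCert.Fi24Index.data.fwd [y] 10 ∨
      Cfsg.Agent.CosetCert.Fi24Index.data.fwd [x] 100 ≠ Cfsg.Agent.CosetCert.Fi24Index.data.fwd [y] 100 := by
    decide +kernel
  have ne : ∀ x ∈ [11, 1, 3, 7], ∀ y ∈ [11, 1, 3, 7], x ≠ y → el [x] ≠ el [y] := by
    intro x hx y hy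
    have hx' : x < 12 := by revert x; decide
    have hy' : y < 12 := by revert y; decide
    intro hxy
    rcases hp x hx y hy hxy with h | h | h <;> exact key x y hx' hy' _ (by norm_num) h
  rw [← h11, ← h1, ← h3, ← h7]
  simp only [List.nodup_cons, List.mem_cons, List.not_mem_nil, or_false, not_or, not_false_eq_true,
    and_true, List.nodup_nil]
  exact ⟨⟨ne _ (by simp) _ (by simp) (by norm_num), ne _ (by simp) _ (by simp) (by norm_num),
    ne _ (by simp) _ (by simp) (by norm_num)⟩, ⟨ne _ (by simp) _ (by simp) (by norm_num),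
    ne _ (by simp) _ (by simp) (by norm_num)⟩, ne _ (by simp) _ (by simp) (by norm_num)⟩

/-- The centraliser of a product of four commuting members in the derived group. -/
theorem four_main24 {G' : Type u} [Group G'] [Finite G'] {D' : Set G'}
    (hD : Cfsg.IsThreeTranspositionGroup D') (hprim : Cfsg.IsPrimitiveUnderConj D')
    (h24 : Cfsg.IsOfTypeM24 G' D') {z' : G'} {l : List G'}
    (hl : l.Nodup ∧ l.length = 4 ∧ (∀ a ∈ l, a ∈ D') ∧ (∀ a ∈ l, ∀ b ∈ l, Commute a b) ∧ l.prod = z') :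
    Shape ↥(commutator G' ⊓ Subgroup.centralizer ({z'} : Set G') : Subgroup G') := by
  classical
  obtain ⟨e, he⟩ := ThreeTrans.Y542.exists_iso hD hprim h24
  obtain ⟨X, _, _, E, hB⟩ := ThreeTrans.exists_base24 hD hprim h24
  have hZ := h24.1
  obtain ⟨hnd, hlen, hmem, hcomm, hprod⟩ := hl
  obtain ⟨a, b, c, d, rfl⟩ : ∃ a b c d, l = [a, b, c, d] := by
    match l, hlen with
    | [a, b, c, d], _ => exact ⟨a, b, c, d, rfl⟩
  simp only [List.nodup_cons, List.mem_cons, List.not_mem_nil, or_false, not_or, not_false_eq_true,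
    and_true, List.nodup_nil] at hnd
  obtain ⟨⟨hab, hac, had⟩, ⟨hbc, hbd⟩, hcd⟩ := hnd
  have chain : ∀ {p q r s : G'}, p ∈ D' → q ∈ D' → r ∈ D' → s ∈ D' → p ≠ q → p ≠ r → p ≠ s →
      q ≠ r → q ≠ s → r ≠ s → Commute p q → Commute p r → Commute p s → Commute q r → Commute q s →
      Commute r s → q ∈ ThreeTrans.dperp D' p ∧ r ∈ ThreeTrans.dperp (ThreeTrans.dperp D' p) q ∧
        s ∈ ThreeTrans.dperp (ThreeTrans.dperp (ThreeTrans.dperp D' p) q) r :=
    fun hp hq hr hs n1 n2 n3 n4 n5 n6 c1 c2 c3 c4 c5 c6 =>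
      ⟨⟨hq, n1.symm, c1⟩, ⟨⟨hr, n2.symm, c2⟩, n4.symm, c4⟩,
        ⟨⟨⟨hs, n3.symm, c3⟩, n5.symm, c5⟩, n6.symm, c6⟩⟩
  obtain ⟨hb', hc', hd'⟩ := chain (hmem a (by simp)) (hmem b (by simp)) (hmem c (by simp))
    (hmem d (by simp)) hab hac had hbc hbd hcd (hcomm a (by simp) b (by simp))
    (hcomm a (by simp) c (by simp)) (hcomm a (by simp) d (by simp)) (hcomm b (by simp) c (by simp))
    (hcomm b (by simp) d (by simp)) (hcomm c (by simp) d (by simp))
  have hne := four_distinct
  simp only [List.nodup_cons, List.mem_cons, List.not_mem_nil, or_false, not_or, not_false_eq_true,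
    and_true, List.nodup_nil] at hne
  obtain ⟨⟨n1, n2, n3⟩, ⟨n4, n5⟩, n6⟩ := hne
  have hcg : ∀ {x y : Cfsg.Spor.Fi24.Gen}, Cfsg.Spor.coxLabel Cfsg.Spor.Fi24.edges x y = 2 →
      Commute (e (gen x)) (e (gen y)) := fun h => (commute_gen h).map e
  obtain ⟨hb0, hc0, hd0⟩ := chain (he .l) (he .a) (he .c) (he .e) (e.injective.ne n1)
    (e.injective.ne n2) (e.injective.ne n3) (e.injective.ne n4) (e.injective.ne n5)
    (e.injective.ne n6) (hcg (by decide)) (hcg (by decide)) (hcg (by decide)) (hcg (by decide))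
    (hcg (by decide)) (hcg (by decide))
  obtain ⟨g, g1, g2, g3, g4⟩ := ThreeTrans.exists_conj_quad24 hD hB hZ (he .l) hb0 hc0 hd0
    (hmem a (by simp)) hb' hc' hd'
  let E' : G ≃* G' := e.trans (MulAut.conj g)
  have hE' : E' z = z' := by
    rw [el_four, map_mul, map_mul, map_mul, ← hprod]
    show g * e (gen .l) * g⁻¹ * (g * e (gen .a) * g⁻¹) * (g * e (gen .c) * g⁻¹) *
      (g * e (gen .e) * g⁻¹) = _
    rw [g1, g2, g3, g4]
    simp [mul_assoc]
  have hcent : (Subgroup.centralizer ({z} : Set G)).map E'.toMonoidHom =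
      Subgroup.centralizer ({z'} : Set G') := by
    ext y
    rw [Subgroup.mem_map_equiv, Subgroup.mem_centralizer_singleton_iff,
      Subgroup.mem_centralizer_singleton_iff, ← hE', ← E'.injective.eq_iff, map_mul, map_mul,
      E'.apply_symm_apply]
  have hb : Nat.card ↥(Subgroup.centralizer ({z} : Set G)) ≤ 321052999680 := by
    rw [Nat.card_congr (E'.subgroupMap (Subgroup.centralizer ({z} : Set G))).toEquiv]
    show Nat.card ↥((Subgroup.centralizer ({z} : Set G)).map E'.toMonoidHom) ≤ _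
    rw [hcent, ← hprod]
    obtain ⟨k, j, -, k2, -, j2, hk⟩ :=
      ThreeTrans.card_centralizer_four24 hD hZ hB (hmem a (by simp)) hb' hc' hd'
    rw [show [a, b, c, d].prod = a * b * c * d from by simp [mul_assoc], hk]
    calc 504 * (k * (j * 106168320)) ≤ 504 * (3 * (2 * 106168320)) :=
          Nat.mul_le_mul_left _ (Nat.mul_le_mul k2 (Nat.mul_le_mul_right _ j2))
      _ = 321052999680 := by norm_num
  have hC : C.map E'.toMonoidHom = commutator G' ⊓ Subgroup.centralizer ({z'} : Set G') := by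
    rw [Subgroup.map_inf _ _ _ E'.injective, hcent, map_commutator_eq,
      MonoidHom.range_eq_top.2 E'.surjective, ← commutator_def]
  exact (shape_C1 hb).congr (((MulEquiv.subgroupCongr (counts hb).1).trans (E'.subgroupMap C)).trans
    (MulEquiv.subgroupCongr hC))

end Cfsg.Agent.Fi24Four
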