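import Cfsg.Agent.Fi24Four.Extra
import Cfsg.Agent.UnitMult.FourThree
import Cfsg.Agent.Layer.PConstraint
import Cfsg.Agent.S0283

/-!
The quotient on the 112 blocks contains PSU(4,3) with index two; the generalised Fitting subgroup
of the centraliser is `Q`.
-/

set_option autoImplicit false
set_option maxRecDepth 100000

namespace Cfsg.Agent.Fi24Four

open Cfsg.Agent.Compute Cfsg.Agent.Fi24 Cfsg.Agent.UnitMult
open scoped commutatorElement

attribute [local irreducible] pm tv bit pt FourThree.codes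

/-- The structure asserted of the centraliser. -/
def Shape (X : Type*) [Group X] : Prop :=
  ∃ (Q : Subgroup X) (_ : Q.Normal), Cfsg.generalizedFittingSubgroup X = Q ∧
    Cfsg.IsExtraspecial 2 ↥Q ∧ Nat.card Q = 2 ^ 13 ∧
    ∃ (N M : Subgroup X) (_ : N.Normal) (_ : M.Normal), Q ≤ N ∧ N ≤ M ∧
      Nat.card N = 3 * Nat.card Q ∧
      (∃ (K : Type) (_ : Field K) (_ : Fintype K), Fintype.card K = 9 ∧
        Nonempty (↥M ⧸ N.subgroupOf M ≃* Cfsg.PSU 4 K 3)) ∧ M.index = 2

theorem simple_G : IsSimpleGroup FourThree.G := by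
  let F := GaloisField 3 2
  haveI : Fintype F := Fintype.ofFinite F
  have hF : Fintype.card F = 9 := by
    rw [← Nat.card_eq_fintype_card, GaloisField.card 3 2 (by norm_num)]
    norm_num
  obtain ⟨e⟩ := FourThree.exists_iso hF
  haveI : IsSimpleGroup (Cfsg.PSU 4 F 3) :=
    Cfsg.Agent.S0283.result (F := F) (q := 3) (by rw [hF]; norm_num) 4 (by norm_num)
      (fun h => absurd h.1 (by norm_num))
  exact e.isSimpleGroup

theorem rel_spec (q : Fin 112) : rel.getD q 0 < 112 ∧ rinv.getD q 0 < 112 ∧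
    rel.getD (rinv.getD q 0) 0 = q ∧ rinv.getD (rel.getD q 0) 0 = q := by
  have h := allBelow_eq_true.1 rel_ok q q.2
  simpa [Nat.blt_eq, Nat.beq_eq, and_assoc] using h

/-- The numbering of the singular points. -/
noncomputable def relE : Fin 112 ≃ Fin 112 where
  toFun q := ⟨rel.getD q 0, (rel_spec q).1⟩
  invFun q := ⟨rinv.getD q 0, (rel_spec q).2.1⟩
  left_inv q := Fin.ext (rel_spec q).2.2.2
  right_inv q := Fin.ext (rel_spec q).2.2.1

/-- PSU(4,3) on the blocks. -/
noncomputable def ι' : FourThree.G →* Equiv.Perm (Fin 112) :=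
  relE.permCongrHom.toMonoidHom.comp FourThree.ι

theorem ι'_injective : Function.Injective ι' :=
  relE.permCongrHom.injective.comp FourThree.ι_injective

theorem ι'_gen {s : Nat} (hs : s < 5) : θ (nd (pNodes.getD s 0)) = ι' (FourThree.gen s) := by
  have h := allBelow_eq_true.1 p_ok s hs
  simp only [Bool.and_eq_true, allBelow_eq_true, Nat.blt_eq, Nat.beq_eq] at h
  obtain ⟨hlt, hq⟩ := h
  refine Equiv.ext fun q => Fin.ext ?_
  rw [(nd_spec hlt).2 q, hq q q.2]
  show _ = rel.getD ((FourThree.ι (FourThree.gen s) (relE.symm q) : Fin 112) : Nat) 0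
  rw [FourThree.gen_coded s hs]
  rfl

theorem ι'_le : ι'.range ≤ θ.range := by
  rintro _ ⟨x, rfl⟩
  induction FourThree.gen_generates x using Submonoid.closure_induction with
  | mem y hy =>
    obtain ⟨s, hs, rfl⟩ := hy
    exact ⟨_, ι'_gen hs⟩
  | one => rw [map_one]; exact one_mem _
  | mul a b _ _ ha hb => rw [map_mul]; exact mul_mem ha hb

theorem card_ι' : Nat.card ↥ι'.range = 3265920 :=
  (Nat.card_congr (MonoidHom.ofInjective ι'_injective).toEquiv).symm.trans FourThree.card_group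

/-- The subgroup above `N` with quotient PSU(4,3). -/
noncomputable def M : Subgroup C1 := ι'.range.comap θ

theorem stab_fixed (q : Fin 112) (h : ∀ g ∈ topGens lvBlk.tail, tv g q = q) :
    (q : Nat) = (lvBlk.headD (0, [], [])).1 := by
  have hs := stab_ok
  simp only [Bool.and_eq_true, allBelow_eq_true, Bool.or_eq_true, List.any_eq_true,
    Bool.not_eq_true', ← Bool.not_eq_true, Nat.beq_eq] at hs
  rcases hs.2 q q.2 with e | ⟨g, hg, hne⟩
  exacts [e, absurd (h g hg) hne]

/-- The action on the blocks is transitive. -/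
theorem exists_to (b p : Fin 112) (hb : (b : Nat) = (lvBlk.headD (0, [], [])).1) :
    ∃ g : C1, θ g b = p := by
  have h := lvBlk_ok
  simp only [Bool.and_eq_true] at h
  obtain ⟨h, -⟩ := h
  have hne : lvBlk ≠ [] ∧ (lvBlk.headD (0, [], [])).2.2.length = 112 := by decide +kernel
  cases hl : lvBlk with
  | nil => exact absurd hl hne.1
  | cons l r =>
    rw [hl] at h hb hne
    simp only [List.headD_cons] at hb hne
    simp only [chainB, orbB, Bool.and_eq_true, Bool.or_eq_true, List.all_eq_true, allBelow_eq_true,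
      Nat.blt_eq, Nat.beq_eq, List.contains_iff_mem, Bool.not_eq_true', ← Bool.not_eq_true] at h
    obtain ⟨⟨⟨⟨⟨_, hbase⟩, hgm⟩, horb⟩, _⟩, _⟩ := h
    have hP : ∀ j, j < l.2.2.length → (l.2.2.getD j (0, 0, 0)).1 < 112 := fun j hj => (horb j hj).1.1
    have hmem : ∀ j (hj : j < l.2.2.length),
        ∃ g : C1, θ g b = ⟨(l.2.2.getD j (0, 0, 0)).1, hP j hj⟩ := by
      intro j
      induction j using Nat.strong_induction_on with
      | _ j ih =>
        intro hj
        rcases (horb j hj).2 with hj0 | ⟨⟨hpar, hg⟩, hap⟩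
        · subst hj0
          exact ⟨1, by rw [map_one]; exact Fin.ext (hb.trans hbase.symm)⟩
        · obtain ⟨g, hg'⟩ := ih _ hpar (hpar.trans hj)
          refine ⟨nd (l.2.2.getD j (0, 0, 0)).2.2 * g, Fin.ext ?_⟩
          rw [map_mul, Equiv.Perm.mul_apply, hg', (nd_spec (hgm _ hg)).2]
          exact hap
    have hinj : Function.Injective fun j : Fin l.2.2.length =>
        (⟨(l.2.2.getD j (0, 0, 0)).1, hP j j.2⟩ : Fin 112) := by
      intro i j hij
      have h' := congrArg Fin.val hij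
      rcases lt_trichotomy (i : ℕ) j with hlt | hlt | hlt
      · exact absurd h' ((horb j j.2).1.2 i hlt)
      · exact Fin.ext hlt
      · exact absurd h'.symm ((horb i i.2).1.2 j hlt)
    obtain ⟨j, hj⟩ := ((Fintype.bijective_iff_injective_and_card _).2
      ⟨hinj, by rw [Fintype.card_fin, Fintype.card_fin]; exact hne.2⟩).2 p
    obtain ⟨g, hg⟩ := hmem j j.2
    exact ⟨g, hg.trans hj⟩

theorem central_eq_one {r : Equiv.Perm (Fin 112)} (h : ∀ g : C1, Commute (θ g) r) : r = 1 := by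
  have hlt : (lvBlk.headD (0, [], [])).1 < 112 := by decide +kernel
  set b : Fin 112 := ⟨_, hlt⟩ with hb
  have hgens : ∀ g ∈ topGens lvBlk.tail, g < 185 ∧ tv g b = b := by
    have hs := stab_ok
    simp only [Bool.and_eq_true, List.all_eq_true, Nat.blt_eq, Nat.beq_eq] at hs
    exact hs.1
  have hrb : r b = b := by
    refine Fin.ext (stab_fixed (r b) fun g hg => ?_)
    obtain ⟨hlt', hfix⟩ := hgens g hg
    have e : θ (nd g) b = b := Fin.ext ((nd_spec hlt').2 b ▸ hfix)
    rw [← (nd_spec hlt').2 (r b), ← Equiv.Perm.mul_apply, (h (nd g)).eq, Equiv.Perm.mul_apply, e]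
  refine Equiv.ext fun p => ?_
  obtain ⟨g, rfl⟩ := exists_to b p rfl
  rw [← Equiv.Perm.mul_apply, ← (h g).eq, Equiv.Perm.mul_apply, hrb]
  rfl

section Bound

variable (hb : Nat.card ↥(Subgroup.centralizer ({z} : Set G)) ≤ 321052999680)
include hb

theorem Q_le_N : Q ≤ N := fun q hq => by
  obtain ⟨n, hn, e⟩ := QP_le hq
  have hk : ψ (n⁻¹ * q) = 1 := by rw [map_mul, map_inv, e, inv_mul_cancel]
  rw [show q = n * (n⁻¹ * q) from (mul_inv_cancel_left n q).symm]
  exact mul_mem hn (θ_eq_one hk)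

theorem index_M : M.index = 2 := by
  have h1 : M.index = ι'.range.relIndex θ.range := Subgroup.index_comap _ _
  have h2 := Subgroup.card_mul_index (ι'.range.subgroupOf θ.range)
  rw [Nat.card_congr (Subgroup.subgroupOfEquivOfLe ι'_le).toEquiv, card_ι', (counts hb).2.2.1] at h2
  rw [h1, Subgroup.relIndex]
  omega

theorem normal_cases (K : Subgroup C1) [K.Normal] :
    (∀ c ∈ K, θ c ∈ ι'.range → θ c = 1) ∨ ι'.range ≤ K.map θ := by
  haveI : IsSimpleGroup FourThree.G := simple_G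
  haveI : ((K.map θ).comap ι').Normal := ⟨fun x hx y => by
    obtain ⟨g, hg⟩ := ι'_le ⟨y, rfl⟩
    rw [Subgroup.mem_comap, map_mul, map_mul, map_inv, ← hg]
    obtain ⟨c, hc, e⟩ := hx
    rw [← e, ← map_inv, ← map_mul, ← map_mul]
    exact ⟨_, ‹K.Normal›.conj_mem c hc g, rfl⟩⟩
  rcases Subgroup.Normal.eq_bot_or_eq_top (H := (K.map θ).comap ι') inferInstance with h | h
  · left
    rintro c hc ⟨x, hx⟩
    have hx1 : x ∈ (K.map θ).comap ι' := by
      rw [Subgroup.mem_comap, hx]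
      exact ⟨c, hc, rfl⟩
    rw [h, Subgroup.mem_bot] at hx1
    rw [← hx, hx1, map_one]
  · right
    rintro _ ⟨x, rfl⟩
    exact Subgroup.mem_comap.1 (h.symm ▸ Subgroup.mem_top x : x ∈ (K.map θ).comap ι')

theorem le_N_of_avoid (K : Subgroup C1) [K.Normal]
    (hK : ∀ c ∈ K, θ c ∈ ι'.range → θ c = 1) : K ≤ N := by
  have hM := index_M hb
  haveI : M.Normal := Subgroup.normal_of_index_eq_two hM
  intro c hc
  refine central_eq_one fun g => ?_
  have hcK : g * c * g⁻¹ * c⁻¹ ∈ K := mul_mem (‹K.Normal›.conj_mem c hc g) (inv_mem hc)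
  have hcM : g * c * g⁻¹ * c⁻¹ ∈ M := by
    rw [Subgroup.mul_mem_iff_of_index_two hM, Subgroup.mul_mem_iff_of_index_two hM,
      Subgroup.mul_mem_iff_of_index_two hM, Subgroup.inv_mem_iff, Subgroup.inv_mem_iff]
    tauto
  have h := hK _ hcK hcM
  rw [map_mul, map_mul, map_mul, map_inv, map_inv, mul_inv_eq_one, mul_inv_eq_iff_eq_mul] at h
  exact h

theorem coset_cases {n : C1} (hn : n ∈ N) :
    ∃ a ∈ QP, ψ n = a ∨ ψ n = a * ψ (nd 131) ∨ ψ n = a * ψ (nd 132) := by
  classical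
  have hc : Nat.card ↥(N.map ψ) = 12288 := (counts hb).2.2.2.1
  obtain ⟨h3, hne, h2⟩ := ψ_t
  have ht : ψ t ∈ N.map ψ := Subgroup.mem_map_of_mem ψ t_mem
  let T : Fin 3 → Equiv.Perm (Fin 504) := fun i => ψ t ^ (i : ℕ)
  let F : ↥QP × Fin 3 → ↥(N.map ψ) := fun p =>
    ⟨(p.1 : Equiv.Perm (Fin 504)) * T p.2, mul_mem (QP_le p.1.2) (pow_mem ht _)⟩
  have hord : ∀ d : ℕ, d < 3 → ψ t ^ d ∈ QP → d = 0 := by
    intro d hd hmem
    by_contra h0
    have hq := QP_sq hmem
    interval_cases d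
    · exact h0 rfl
    · rw [pow_one] at hq
      apply hne
      calc ψ t = ψ t ^ 3 := by rw [pow_succ, sq, hq, one_mul]
        _ = 1 := h3
    · apply hne
      calc ψ t = ψ t ^ 3 * ψ t := by rw [h3, one_mul]
        _ = ψ t ^ 2 * ψ t ^ 2 := by group
        _ = 1 := hq
  have hinj : Function.Injective F := by
    rintro ⟨a, i⟩ ⟨b, j⟩ he
    have he' : (a : Equiv.Perm (Fin 504)) * T i = b * T j := congrArg Subtype.val he
    have key : ∀ (a b : ↥QP) (i j : Fin 3), (i : ℕ) ≤ j →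
        (a : Equiv.Perm (Fin 504)) * T i = b * T j → i = j ∧ a = b := by
      intro a b i j hij e
      have e1 : (b : Equiv.Perm (Fin 504))⁻¹ * a = ψ t ^ ((j : ℕ) - i) := by
        rw [pow_sub _ hij, inv_mul_eq_iff_eq_mul, ← mul_assoc, eq_mul_inv_iff_mul_eq]
        exact e
      have hm : ψ t ^ ((j : ℕ) - i) ∈ QP := e1 ▸ mul_mem (inv_mem b.2) a.2
      have hd := hord _ (by omega) hm
      have hij' : i = j := Fin.ext (by omega)
      refine ⟨hij', Subtype.ext ?_⟩
      subst hij'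
      exact mul_right_cancel e
    rcases le_total (i : ℕ) j with h | h
    · obtain ⟨rfl, rfl⟩ := key a b i j h he'; rfl
    · obtain ⟨rfl, rfl⟩ := key b a j i h he'.symm; rfl
  have hb' : Function.Bijective F := by
    rw [Fintype.bijective_iff_injective_and_card]
    refine ⟨hinj, ?_⟩
    rw [Fintype.card_prod, Fintype.card_fin, ← Nat.card_eq_fintype_card, card_QP,
      ← Nat.card_eq_fintype_card, hc]
  obtain ⟨⟨⟨a, ha⟩, i⟩, he⟩ := hb'.2 ⟨ψ n, Subgroup.mem_map_of_mem ψ hn⟩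
  have he' : a * ψ t ^ (i : ℕ) = ψ n := congrArg Subtype.val he
  refine ⟨a, ha, ?_⟩
  match i with
  | 0 => exact Or.inl (by rw [← he']; simp)
  | 1 => exact Or.inr (Or.inl (by rw [← he']; simp [t]))
  | 2 => exact Or.inr (Or.inr (by rw [← he', h2]; rfl))

theorem N_inf_centralizer {c : C1} (hn : c ∈ N) (hc : ∀ x ∈ Q, Commute c x) : c ∈ Q := by
  obtain ⟨a, ha, h | h | h⟩ := coset_cases hb hn
  · exact mem_Q.2 (h ▸ ha)
  all_goals
    exfalso
    have hx := X_mem (show 0 < 12 by norm_num)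
    have h1 : Commute (ψ c) (ψ (X 0)) := (hc _ (mem_Q.2 hx)).map ψ
    have h2 : Commute a⁻¹ (ψ (X 0)) := QP_comm (inv_mem ha) hx
    have h3 := h2.mul_left h1
    rw [h, inv_mul_cancel_left] at h3
    have e := congrArg (fun σ : Equiv.Perm (Fin 504) => (σ ⟨9, by norm_num⟩ : Nat)) h3.eq
    simp only [Equiv.Perm.mul_apply, X, ψ_lf (show 7 + 0 < 20 by norm_num),
      (nd_spec (show 131 < 185 by norm_num)).1, (nd_spec (show 132 < 185 by norm_num)).1] at e
    first
      | exact t_moves.1 e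
      | exact t_moves.2 e

theorem centralizer_Q : Subgroup.centralizer (Q : Set C1) ≤ Q := by
  haveI : (Subgroup.centralizer (Q : Set C1)).Normal := inferInstance
  rcases normal_cases hb (Subgroup.centralizer (Q : Set C1)) with h | h
  · intro c hc
    exact N_inf_centralizer hb (le_N_of_avoid hb _ h hc)
      fun x hx => (Subgroup.mem_centralizer_iff.1 hc x hx).symm
  exfalso
  obtain ⟨c, hc, e⟩ := h ⟨FourThree.gen 0, rfl⟩
  set g := nd (pNodes.getD 0 0) with hg
  have hn : c⁻¹ * g ∈ N := by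
    show θ (c⁻¹ * g) = 1
    rw [map_mul, map_inv, hg, ι'_gen (by norm_num), e, inv_mul_cancel]
  obtain ⟨a, ha, hcase⟩ := coset_cases hb hn
  have hx := X_mem (show 0 < 12 by norm_num)
  have hcc : ∀ y ∈ QP, y ∈ ψ.range → Commute (ψ c) y := by
    rintro _ hy ⟨u, rfl⟩
    exact Commute.map (Subgroup.mem_centralizer_iff.1 hc u hy).symm ψ
  have hgeq : ψ g = ψ c * ψ (c⁻¹ * g) := by rw [← map_mul, mul_inv_cancel_left]
  have key : ∀ T T' : C1, ψ (c⁻¹ * g) = a * ψ T → ψ T' * ψ T = 1 →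
      ψ g * ψ (X 0) = ψ T * ψ (X 0) * ψ T' * ψ g := by
    intro T T' hT hTT
    have hT' : ψ T' = (ψ T)⁻¹ := eq_inv_of_mul_eq_one_left hTT
    set y := ψ T * ψ (X 0) * ψ T' with hy
    have hyQ : y ∈ QP := by rw [hy, hT']; exact QP_normal T hx
    have hyr : y ∈ ψ.range := ⟨T * X 0 * T', by rw [map_mul, map_mul]⟩
    have hcomm : Commute (ψ c * a) y := (hcc y hyQ hyr).mul_left (QP_comm ha hyQ)
    rw [hgeq, hT, ← mul_assoc (ψ c) a (ψ T), mul_assoc (ψ c * a) (ψ T) (ψ (X 0)),
      ← mul_assoc y, ← hcomm.eq, mul_assoc (ψ c * a) y]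
    rw [hy, mul_assoc (ψ T * ψ (X 0)), hTT, mul_one]
  have hlt : pNodes.getD 0 0 < 185 := by decide +kernel
  have h1 : ψ (nd 132) * ψ (nd 131) = 1 := by
    rw [ψ_t.2.2, show ψ (nd 131) = ψ t from rfl, ← pow_succ]; exact ψ_t.1
  have h2 : ψ (nd 131) * ψ (nd 132) = 1 := by
    rw [ψ_t.2.2, show ψ (nd 131) = ψ t from rfl, ← pow_succ']; exact ψ_t.1
  obtain ⟨m1, m2, m3⟩ := g_moves
  rcases hcase with hk | hk | hk
  · have := key 1 1 (by rw [map_one, mul_one]; exact hk) (by rw [map_one, one_mul])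
    rw [map_one, one_mul, mul_one] at this
    refine m1 ?_
    have := congrArg (fun σ : Equiv.Perm (Fin 504) => (σ ⟨3, by norm_num⟩ : Nat)) this
    simpa only [Equiv.Perm.mul_apply, X, hg, (nd_spec hlt).1,
      ψ_lf (show 7 + 0 < 20 by norm_num)] using this
  · refine m2 ?_
    have := congrArg (fun σ : Equiv.Perm (Fin 504) => (σ ⟨3, by norm_num⟩ : Nat))
      (key (nd 131) (nd 132) hk h1)
    simpa only [Equiv.Perm.mul_apply, X, hg, (nd_spec hlt).1, (nd_spec (show 131 < 185 by norm_num)).1,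
      (nd_spec (show 132 < 185 by norm_num)).1, ψ_lf (show 7 + 0 < 20 by norm_num)] using this
  · refine m3 ?_
    have := congrArg (fun σ : Equiv.Perm (Fin 504) => (σ ⟨3, by norm_num⟩ : Nat))
      (key (nd 132) (nd 131) hk h2)
    simpa only [Equiv.Perm.mul_apply, X, hg, (nd_spec hlt).1, (nd_spec (show 131 < 185 by norm_num)).1,
      (nd_spec (show 132 < 185 by norm_num)).1, ψ_lf (show 7 + 0 < 20 by norm_num)] using this

theorem pCore_eq : Cfsg.pCore 2 C1 = Q := by
  have hQp : IsPGroup 2 ↥Q := IsPGroup.of_card (n := 13) (by rw [card_Q hb]; norm_num)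
  refine le_antisymm ?_ (Core.le_pCore hQp)
  have hO : IsPGroup 2 ↥(Cfsg.pCore 2 C1) := Core.pCore_isPGroup
  have hN : Cfsg.pCore 2 C1 ≤ N := by
    rcases normal_cases hb (Cfsg.pCore 2 C1) with h | h
    · exact le_N_of_avoid hb _ h
    exfalso
    obtain ⟨k, hk⟩ := IsPGroup.iff_card.1 ((hO.map θ).to_le h)
    rw [card_ι'] at hk
    have h3 : 3 ∣ 2 ^ k := hk ▸ (by norm_num)
    exact absurd (Nat.prime_three.dvd_of_dvd_pow h3) (by norm_num)
  intro x hx
  obtain ⟨a, ha, hcase⟩ := coset_cases hb (hN hx)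
  refine mem_Q.2 ?_
  have hxp : IsPGroup 2 ↥((Cfsg.pCore 2 C1).map ψ) := hO.map ψ
  have hax : a⁻¹ * ψ x ∈ (Cfsg.pCore 2 C1).map ψ := by
    refine mul_mem (inv_mem ?_) ⟨x, hx, rfl⟩
    obtain ⟨u, hu⟩ := (QP_le ha)
    exact ⟨u, Core.le_pCore hQp (mem_Q.2 (hu.2.symm ▸ ha)), hu.2⟩
  rcases hcase with h | h | h
  · exact h ▸ ha
  all_goals
    exfalso
    rw [h, inv_mul_cancel_left] at hax
    obtain ⟨k, hk⟩ := hxp ⟨_, hax⟩
    have hpow := congrArg Subtype.val hk
    rw [SubmonoidClass.coe_pow, OneMemClass.coe_one] at hpow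
    haveI : Fact (Nat.Prime 3) := ⟨Nat.prime_three⟩
    have hne : ∀ r : ℕ, ψ t ^ 2 ^ r ≠ 1 := fun r e => by
      have h' := orderOf_dvd_of_pow_eq_one e
      rw [orderOf_eq_prime ψ_t.1 ψ_t.2.1] at h'
      exact absurd (Nat.prime_three.dvd_of_dvd_pow h') (by norm_num)
    first
      | exact hne k hpow
      | (have hp' : ψ (nd 132) ^ 2 ^ k = 1 := hpow
         rw [ψ_t.2.2, ← pow_mul, ← pow_succ'] at hp'
         exact hne (k + 1) hp')

theorem shape_C1 : Shape C1 := by
  haveI : M.Normal := Subgroup.normal_of_index_eq_two (index_M hb)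
  have hNM : N ≤ M := fun n hn => by
    show θ n ∈ ι'.range
    rw [MonoidHom.mem_ker.1 hn]
    exact one_mem _
  refine ⟨Q, inferInstance, ?_, extraspecial_Q hb, by rw [card_Q hb]; norm_num, N, M, inferInstance,
    inferInstance, Q_le_N hb, hNM, by rw [(counts hb).2.1, card_Q hb], ?_, index_M hb⟩
  · haveI : Fact (Nat.Prime 2) := ⟨Nat.prime_two⟩
    rw [← pCore_eq hb, Cfsg.Agent.Layer.generalizedFitting_eq_pCore_iff]
    show Subgroup.centralizer (Cfsg.pCore 2 C1 : Set C1) ≤ Cfsg.pCore 2 C1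
    rw [pCore_eq hb]
    exact centralizer_Q hb
  · letI : Fintype (GaloisField 3 2) := Fintype.ofFinite _
    have hF : Fintype.card (GaloisField 3 2) = 9 := by
      rw [← Nat.card_eq_fintype_card, GaloisField.card 3 2 (by norm_num)]
      norm_num
    obtain ⟨e⟩ := FourThree.exists_iso hF
    refine ⟨GaloisField 3 2, inferInstance, inferInstance, hF, ⟨?_⟩⟩
    let f : ↥M →* ↥ι'.range := (θ.comp M.subtype).codRestrict _ fun x => x.2
    have hker : f.ker = N.subgroupOf M := by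
      ext x
      exact ⟨fun h => congrArg Subtype.val h, fun h => Subtype.ext h⟩
    have hsurj : Function.Surjective f := by
      rintro ⟨y, hy⟩
      obtain ⟨g, hg⟩ := ι'_le hy
      exact ⟨⟨g, show θ g ∈ ι'.range from hg.symm ▸ hy⟩, Subtype.ext hg⟩
    exact (((QuotientGroup.quotientMulEquivOfEq hker.symm).trans
      (QuotientGroup.quotientKerEquivOfSurjective f hsurj)).trans
        (MonoidHom.ofInjective ι'_injective).symm).trans e

end Bound

end Cfsg.Agent.Fi24Four
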